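import Cfsg.Agent.Lib.W3.Base
import Cfsg.Agent.Lib.BSW.SL2Sub
import Cfsg.Agent.Lib.CIT.Solv

/-!
# Proper subgroups containing an elementary abelian Sylow 2-subgroup of order 8
-/

set_option autoImplicit false

namespace Cfsg.Agent.W3

open Subgroup Cfsg.Agent.OO Cfsg.Agent.Coprime Cfsg.Agent.Sig Cfsg.Agent.GW Cfsg.Agent.R1
open scoped commutatorElement Pointwise MatrixGroups

universe u

variable {G : Type u} [Group G] [Finite G] {A B D E H I J K L M N P Q S T X Y Z : Subgroup G}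
  {n p q : ℕ} {a b g s t v x y : G}

theorem ih_all (n : ℕ) : IH.{u} n := fun _ _ _ L _ k2 k3 k4 => by
  obtain ⟨F, _, _, -, k5, ⟨e⟩⟩ := gw4 L (k2.isSimpleGroup fun e => k3 (e ▸ ab_bot)) k3 k4
  exact good_of_equiv (Nat.odd_iff.2 (by omega)) e k2 k3

theorem psl_facts {F : Type} [Field F] [Fintype F] (h5 : 5 ≤ Fintype.card F)
    (h : Fintype.card F % 8 = 3 ∨ Fintype.card F % 8 = 5) (e : G ≃* PSL(2, F)) :
    IsSimpleGroup G ∧ ¬ IsMulCommutative G ∧ Nat.card G % 8 = 4 := by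
  have := Matrix.ProjectiveSpecialLinearGroup.rank_two_simple (F := F) (by
    rw [Nat.card_eq_fintype_card]; omega)
  have h1 := e.isSimpleGroup
  have h2 := CIT.card_PSL2 (S4357.two_ne_zero' (F := F) (Nat.odd_iff.2 (by omega)))
  rw [← Nat.card_congr e.toEquiv] at h2
  obtain ⟨m, hm⟩ : ∃ m, Fintype.card F = m + 1 := ⟨_, (Nat.sub_add_cancel (by omega)).symm⟩
  have h3 : (m + 1) * (m * (m + 1 + 1)) % 16 = 8 := by
    have : m % 16 = 2 ∨ m % 16 = 10 ∨ m % 16 = 4 ∨ m % 16 = 12 := by omega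
    rcases this with e | e | e | e <;> simp [Nat.mul_mod, Nat.add_mod, e]
  rw [hm, Nat.add_sub_cancel] at h2
  have h4 : Nat.card G % 8 = 4 := by omega
  refine ⟨h1, fun hc => ?_, h4⟩
  letI : CommGroup G := { mul_comm := hc.is_comm.comm }
  have := (IsSimpleGroup.prime_card (α := G)).eq_one_or_self_of_dvd 2 (by omega)
  omega

theorem sq_of_not8 [IsSimpleGroup G] (hn : ¬ IsMulCommutative G) (h8 : ¬ 8 ∣ Nat.card G)
    (hx : IsPGroup 2 (zpowers x)) : x * x = 1 := by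
  obtain ⟨-, t, s, ρ, h⟩ := exists_v4 hn (by rwa [card_top])
  obtain ⟨g, -, e⟩ := h.pair.syl.exists_conj_le le_top hx
  simpa [sq, conj_mul] using h.pair.isEp.abelem.2 _ (e (conj_mem_conj (mem_zpowers x)))

theorem JRs.half {F : Type} [Field F] [Fintype F] (h : JRs t H L F) : Half 𝐂[t] H t := by
  have h1 : H ≤ 𝐂[t] := fun g hg => mem_cent1.2 ((h.cent g).2 (.inl hg))
  refine ⟨⟨h1, fun g hg => ?_⟩, mem_cent1_self t, h.t2, le_rfl, h.tH,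
    fun g hg => (h.cent g).1 (mem_cent1.1 hg)⟩
  exact ((h.cent g).1 (mem_cent1.1 hg)).elim (le_norm_self H ·) fun e => (mul_mem_cancel_right
    (cent_le_norm H (le_cent1_iff.1 h1))).1 (le_norm_self H e)

/-- 2-elements of the groups in Walter's theorem are involutions -/
theorem astar_sq (h : AStar G) (hx : IsPGroup 2 (zpowers x)) : x * x = 1 := by
  by_cases x1 : x = 1
  · simp [x1]
  obtain ⟨z, hz, e⟩ := cauchy Nat.prime_two (dvd_card_of_isPGroup hx (by simpa))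
  have z1 : z ≠ 1 := fun e' => by simp [e'] at e
  have z2 : z * z = 1 := by rw [← sq, ← e, pow_orderOf_eq_one]
  have hc := cent1_le_of_mem_zpowers hz (mem_cent1_self x)
  rcases h with ⟨n, -, ⟨e⟩⟩ | ⟨F, _, _, h1, h2, ⟨e⟩⟩ | ⟨t, H, L, F, _, _, h⟩
  · exact (BSW.ca2_SL2.of_injective (e.trans BSW.pslEquiv).toMonoidHom
      (e.trans BSW.pslEquiv).injective).el z x z1 z2 (mem_cent1.1 hc)
  · obtain ⟨_, k2, k3⟩ := psl_facts h1 h2 e
    exact sq_of_not8 k2 (by omega) hx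
  obtain ⟨g, rfl⟩ := isConj_iff.1 (h.conj z z1 z2)
  obtain ⟨e⟩ := h.iso
  obtain ⟨_, k2, k3⟩ := psl_facts h.five h.mod e
  have k : ∀ y ∈ H, IsPGroup 2 (zpowers y) → y * y = 1 := fun y hy h2 => by
    have h3 : y ∈ L := zpowers_le.1 ((piGrp_singleton h2).le_of_relIndex (zpowers_le.2 hy) h.norm
      ((isPiNum_compl_singleton Nat.prime_two).2 h.odd.not_two_dvd_nat))
    exact congrArg Subtype.val (sq_of_not8 (x := (⟨y, h3⟩ : L)) k2 (by omega) (isPGroup_zpowers_iff.2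
      (by simpa [PiElt] using isPGroup_zpowers_iff.1 h2)))
  have h1 : g * x * g⁻¹ ∈ 𝐂[g * z * g⁻¹] := cent1_conj g z ▸ conj_mem_conj hc
  have h2 := (isPGroup_zpowers_iff.1 hx).conj g
  suffices g * x * g⁻¹ * (g * x * g⁻¹) = 1 by simpa [conj_mul] using this
  refine ((JRs.half h).or _ h1).elim (fun e => k _ e (isPGroup_zpowers_iff.2 h2)) fun e => ?_
  have := k _ e (isPGroup_zpowers_iff.2 (h2.mul_of_commute (isPGroup_zpowers_iff.1
    (abelem_isPGroup (abelem_zpowers (by rw [sq, h.t2])))) (mem_cent1.1 h1)))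
  rwa [(show Commute (g * z * g⁻¹) (g * x * g⁻¹) from (mem_cent1.1 h1).symm).mul_mul_mul_comm, h.t2,
    mul_one] at this

theorem astar_O (h : AStar G) (h8 : 8 ∣ Nat.card G) (a1 : a ≠ 1) (a2 : a * a = 1) : O 𝐂[a] = ⊥ := by
  rcases h with ⟨n, -, ⟨e⟩⟩ | ⟨F, _, _, h1, h2, ⟨e⟩⟩ | ⟨t, H, L, F, _, _, h⟩
  · exact eq_bot_iff.2 fun x hx => eq_one_of_odd_of_sq (odd_of_mem (odd_O _) hx)
      ((BSW.ca2_SL2.of_injective (e.trans BSW.pslEquiv).toMonoidHom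
        (e.trans BSW.pslEquiv).injective).el a x a1 a2 (mem_cent1.1 (Opi_le _ _ hx)))
  · have := (psl_facts h1 h2 e).2.2
    omega
  obtain ⟨g, rfl⟩ := isConj_iff.1 (h.conj a a1 a2)
  obtain ⟨e⟩ := h.iso
  obtain ⟨k1, -, k3⟩ := psl_facts h.five h.mod e
  have h1 : O H ⊓ L = ⊥ := (k1.eq_bot_or_eq_top_of_normal _ ((Opi_normal _ H).inf_right
    h.le).subgroupOf).elim (fun e => by rwa [subgroupOf_eq_bot, disjoint_iff, inf_assoc, inf_idem] at e)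
      fun e => by
        have := odd_of_le (odd_O H) ((subgroupOf_eq_top.1 e).trans inf_le_left)
        rw [Nat.odd_iff] at this
        omega
  rw [← conj_eq_bot_iff (g := g), ← Opi_conj, ← cent1_conj]
  refine (JRs.half h).O_eq.symm.trans (eq_bot_iff.2 (le_trans ?_ h.centL.le))
  exact le_inf (Opi_le _ _) (le_cent_of_inf_eq_bot ((Opi_le _ _).trans h.norm)
    (h.le.trans (O_norm H)) h1)

/-- the subgroup `X` has abelian Sylow 2-subgroups and its simple sections are known -/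
structure KX (X : Subgroup G) : Prop where
  ab : ∀ P ≤ X, IsPGroup 2 P → Ab P
  hyp : ∃ n, ♯X < n ∧ KHyp.{u} n

namespace KX

theorem mono (h : KX X) (hY : Y ≤ X) : KX Y :=
  ⟨fun P hP => h.ab P (hP.trans hY), h.hyp.imp fun _ e => ⟨(card_le hY).trans_lt e.1, e.2⟩⟩

theorem quo (h : KX X) (N : Subgroup G) : KX (X ⁒ N) :=
  ⟨fun P hP h2 => by
    obtain ⟨Q, h3, -, h4, rfl⟩ := exists_isPGroup_quo_eq hP h2
    exact ab_quo (h.ab Q h3 h4) N, h.hyp.imp fun _ e => ⟨(card_quo_le _ _).trans_lt e.1, e.2⟩⟩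

theorem astar (h : KX X) (hs : Smp X) (hn : ¬ Ab X) : AStar X := by
  obtain ⟨n, h1, h2⟩ := h.hyp
  refine h2 X h1 (hs.isSimpleGroup fun e => hn (e ▸ ab_bot)) hn fun P hP => ?_
  have := h.ab _ (map_subtype_le P) (hP.map _)
  exact ⟨⟨fun a b => Subtype.ext (Subtype.ext (ab_iff.1 this _ (mem_map_of_mem _ a.2) _
    (mem_map_of_mem _ b.2)))⟩⟩

theorem sq (h : KX X) (hs : Smp X) (hn : ¬ Ab X) (hx : x ∈ X) (h2 : IsPGroup 2 (zpowers x)) :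
    x * x = 1 :=
  congrArg Subtype.val (astar_sq (x := (⟨x, hx⟩ : X)) (h.astar hs hn) (isPGroup_zpowers_iff.2
    (by simpa [PiElt] using isPGroup_zpowers_iff.1 h2)))

theorem O_cent (h : KX X) (hs : Smp X) (hn : ¬ Ab X) (h8 : 8 ∣ ♯X) (ha : a ∈ X) (a1 : a ≠ 1)
    (a2 : a * a = 1) : O (X ⊓ 𝐂[a]) = ⊥ := by
  have h1 : (𝐂[(⟨a, ha⟩ : X)]).map X.subtype = X ⊓ 𝐂[a] := by
    ext x
    simp only [mem_map, mem_inf, mem_cent1]
    exact ⟨fun ⟨y, hy, e⟩ => e ▸ ⟨y.2, congrArg Subtype.val hy⟩,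
      fun ⟨h1, h2⟩ => ⟨⟨x, h1⟩, Subtype.ext h2, rfl⟩⟩
  have h2 := astar_O (a := (⟨a, ha⟩ : X)) (h.astar hs hn) h8 (fun e => a1 (congrArg Subtype.val e))
    (Subtype.ext a2)
  rw [← h1]
  exact (map_Opi X.subtype_injective _ _).symm.trans
    ((congrArg (map X.subtype) h2).trans (Subgroup.map_bot _))

end KX

/-- `A` is an elementary abelian Sylow 2-subgroup of order 8 of `X` -/
structure E8 (A X : Subgroup G) : Prop extends KX X where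
  ep : IsEp 2 3 A X
  syl : Syl 2 A X

namespace E8

variable (h : E8 A X)
include h

theorem mono (h1 : A ≤ Y) (h2 : Y ≤ X) : E8 A Y := ⟨h.toKX.mono h2, h.ep.of_le h1, h.syl.mono h1 h2⟩

theorem le : A ≤ X := h.ep.le

theorem sq (ha : a ∈ A) : a * a = 1 := by simpa [_root_.sq] using h.ep.abelem.2 a ha

theorem le_cent (ha : a ∈ A) : A ≤ 𝐂[a] := h.ep.le_cent.trans (cent_le_cent1 ha)

theorem cent (ha : a ∈ A) : E8 A (X ⊓ 𝐂[a]) := h.mono (le_inf h.le (h.le_cent ha)) inf_le_left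

theorem inf_eq_bot (ho : Odd ♯Y) : Y ⊓ A = ⊥ :=
  eq_bot_iff.2 fun _ hx => eq_one_of_odd_of_sq (odd_of_mem ho hx.1) (h.sq hx.2)

theorem coprime (ho : Odd ♯Y) (hB : B ≤ A) : (♯Y).Coprime ♯B :=
  coprime_card_mono (by rw [h.ep.card]; exact (Nat.coprime_two_right.2 ho).pow_right 3) le_rfl hB

theorem quo (hN : X ≤ 𝐍(N)) (ho : Odd ♯N) : E8 (A ⁒ N) (X ⁒ N) :=
  ⟨h.toKX.quo N, h.ep.quo (h.le.trans hN) (h.inf_eq_bot ho), h.syl.quo hN⟩

theorem fix_or : (∃ x ∈ A, x ≠ 1 ∧ X ⊓ 𝐍(A) ≤ 𝐂[x]) ∨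
    ∀ a ∈ A, a ≠ 1 → ∀ b ∈ A, b ≠ 1 → ∃ g ∈ X ⊓ 𝐍(A), g * a * g⁻¹ = b :=
  fix_or_trans h.ep.card inf_le_right h.syl.syl_norm h.ep.le_cent

theorem le_cent_of_fix (hO : O X = ⊥) (hx : x ∈ A) (hc : X ⊓ 𝐍(A) ≤ 𝐂[x]) : X ≤ 𝐂[x] :=
  cent_zpowers x ▸ OO.commutator_eq_bot_iff.1 (eq_bot_iff.2 (hO ▸ zst h.syl h.ep.ab hx (h.sq hx) hc))

theorem le_of_trans (hO : O X = ⊥)
    (ht : ∀ a ∈ A, a ≠ 1 → ∀ b ∈ A, b ≠ 1 → ∃ g ∈ X ⊓ 𝐍(A), g * a * g⁻¹ = b) (hD : D ⊴ X)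
    (h0 : D ≠ ⊥) : A ≤ D := fun b hb => by
  obtain ⟨a, ha, a1⟩ := exists_mem_ne_one ((h.syl.normal_inf hD).ne_bot (even_iff_two_dvd.1
    (Nat.not_odd_iff_even.1 fun e => h0 (eq_bot_iff.2 (hO ▸ le_O hD e)))))
  by_cases b1 : b = 1
  · exact b1 ▸ one_mem D
  obtain ⟨g, hg, rfl⟩ := ht a ha.2 a1 b hb b1
  exact hD.conj_mem hg.1 ha.1

theorem tri (hO : O X = ⊥) : (∃ x ∈ A, x ≠ 1 ∧ X ≤ 𝐂[x]) ∨ X ≤ 𝐍(A) ∨
    ∃ J, J ⊴ X ∧ A ≤ J ∧ ∀ a ∈ A, a ≠ 1 → O (J ⊓ 𝐂[a]) = ⊥ := by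
  refine h.fix_or.imp (fun ⟨x, hx, x1, e⟩ => ⟨x, hx, x1, h.le_cent_of_fix hO hx e⟩) fun ht => ?_
  have h0 := h.ep.ne_bot (by decide)
  obtain ⟨L, hL, hLX⟩ := exists_minNormalBy (fun e => h0 (eq_bot_iff.2 (e ▸ h.le))) (le_norm_self X)
  have hLn : L ⊴ X := ⟨hLX, hL.norm⟩
  have hA := h.le_of_trans hO ht hLn hL.ne_bot
  have h' := h.mono hA hLX
  have hO' : O L = ⊥ := eq_bot_iff.2 ((Opi_le_of_normal _ hLn).trans hO.le)
  by_cases ha : Ab L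
  · exact .inl (hL.norm.trans (h'.syl.norm_le_norm_of_normal (le_norm_of_ab ha hA)))
  refine .inr ⟨L, hLn, hA, fun a ha' a1 => h'.toKX.O_cent (fun D hD => ?_) ha
    (h.ep.card ▸ card_dvd hA :) (hA ha') a1 (h.sq ha')⟩
  obtain ⟨x, hx, x1, e⟩ | ht' := h'.fix_or
  · exact absurd (Zc_eq_self_iff.1 (hL.eq_of_ne_bot (Zc_le L) hLn.Zc.norm fun e' => x1 (mem_bot.1
      (e' ▸ ⟨hA hx, le_cent1_iff.1 (h'.le_cent_of_fix hO' hx e)⟩)))) ha
  refine or_iff_not_imp_left.2 fun h0' => ?_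
  obtain ⟨E, hE, hED⟩ := exists_minNormalBy h0' hD.norm
  have hEn : E ⊴ L := ⟨hED.trans hD.le, hE.norm⟩
  refine le_antisymm hD.le ((hL.eq_of_ne_bot hEn.le (fun g hg => ?_) hE.ne_bot).ge.trans hED)
  have h1 : (g⁻¹ •ᶜ E) ⊴ L := hLn.conj_eq (inv_mem hg) ▸ hEn.conj g⁻¹
  refine mem_norm_of_conj_le (conj_le_iff_le_inv_conj.2 (hE.le_of_inf_ne_bot h1.norm fun e => ?_))
  exact h0 (eq_bot_iff.2 (e ▸ le_inf (h'.le_of_trans hO' ht' hEn hE.ne_bot)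
    (h'.le_of_trans hO' ht' h1 (mt conj_eq_bot_iff.1 hE.ne_bot))))

theorem exists_ne (a : G) : ∃ b ∈ A, b ≠ 1 ∧ b ≠ a := by
  by_contra! e
  have := Set.ncard_le_ncard (show sharp A ⊆ {a} from fun b hb => e b hb.1 hb.2)
  rw [ncard_sharp, h.ep.card, Set.ncard_singleton] at this
  omega

variable [Fact p.Prime] (ht : t ∈ A) (t1 : t ≠ 1) (hP : P ≤ X) (hp : IsPGroup p P)
  (hc : X ⊓ 𝐂[t] ≤ 𝐍(P))
include ht t1 hP hp hc

theorem le_cent_of_half (hO : O X = ⊥) (hx : x ∈ A) (x1 : x ≠ 1) (hX : X ≤ 𝐂[x]) : P ≤ 𝐂[t] := by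
  by_cases h2 : p = 2
  · subst h2
    exact (h.syl.le_of_norm hP hp (.inl ((h.cent ht).le.trans hc))).trans (h.le_cent ht)
  obtain ⟨H, hH⟩ := exists_half h.syl h.ep.abelem hx x1 hX
  have h1 := hH.le_of_odd hP (odd_of_isPGroup h2 hp)
  have k : ∀ t' ∈ A ⊓ H, t' ≠ 1 → X ⊓ 𝐂[t'] ≤ 𝐂[t] → P ≤ 𝐂[t'] := fun t' h3 h4 h5 => by
    obtain ⟨s, -, e⟩ := hH.exists_pair h.syl h.ep h3 h4
    exact e.le_cent_of_red (e.red (ih_all _) (Nat.lt_succ_self _) (hH.O_eq.trans hO)) h1 hp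
      ((le_inf (inf_le_left.trans hH.normal.le) ((inf_le_inf_right _ hH.normal.le).trans h5)).trans hc)
  obtain e | e := hH.or t (h.le ht)
  · exact k t ⟨ht, e⟩ t1 inf_le_right
  by_cases e' : t * x = 1
  · rw [← inv_eq_of_mul_eq_one_right e', cent1_inv] at hX
    exact hP.trans hX
  have h3 : X ⊓ 𝐂[t * x] ≤ 𝐂[t] := fun g hg => mem_cent1_comm.1 ((mul_mem_cancel_right
    (mem_cent1_comm.1 (hX hg.1))).1 (mem_cent1_comm.1 hg.2))
  exact (le_inf hP (k _ ⟨mul_mem ht hx, e⟩ e' h3)).trans h3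

theorem le_cent_of_O (hO : O X = ⊥) : P ≤ 𝐂[t] := by
  have hS := (h.cent ht).le.trans hc
  by_cases h2 : p = 2
  · subst h2
    exact (h.syl.le_of_norm hP hp (.inl hS)).trans (h.le_cent ht)
  have ho := odd_of_isPGroup h2 hp
  obtain ⟨x, hx, x1, e⟩ | e | ⟨J, hJ, hA, e⟩ := h.tri hO
  · exact h.le_cent_of_half ht t1 hP hp hc hO hx x1 e
  · exact (le_cent_of_inf_eq_bot (hP.trans e) hS (h.inf_eq_bot ho)).trans (cent_le_cent1 ht)
  have h3 : zpowers t ≤ 𝐍(P) := zpowers_le.2 (hS ht)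
  rw [← cent_zpowers, le_cent_comm]
  refine coprime_commGG1P h3 (coprime_zp ho (h.sq ht)) (.inl (sol_of_odd ho))
    (OO.commutator_eq_bot_iff.2 ?_)
  rw [cent_zpowers]
  refine (le_inf (commutator_le_left' h3) ((commutator_mono le_rfl (zpowers_le.2 (hA ht))).trans
    (commutator_le_right' (hP.trans hJ.norm)))).trans (coprime_abelian_gen_cent1 h.ep.ab
      (h.ep.not_isCyclic (by decide)) (le_norm_inf hS (le_norm_of_le hA))
      (h.coprime (odd_of_le ho inf_le_left) le_rfl) fun a ha a1 => ?_)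
  exact ((h.mono hA hJ.le).cent ha).le_cent_of_half ht t1 (inf_le_inf_right _ inf_le_right)
    (hp.to_le (inf_le_left.trans inf_le_left)) (le_norm_inf (le_norm_inf ((inf_le_inf_right _
      (inf_le_left.trans hJ.le)).trans hc) (le_norm_of_le (inf_le_left.trans inf_le_left)))
      (le_norm_of_le (inf_le_left.trans inf_le_right))) (e a ha a1) ha a1 inf_le_right

theorem commutator_le_O : ⁅P, zpowers t⁆ ≤ O X := by
  have h1 := O_norm X (h.le ht)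
  rw [← quo_le_cent_iff (hP.trans (O_norm X)) (zpowers_le.2 h1), quo_zpowers h1, cent_zpowers]
  refine (h.quo (O_norm X) (odd_O X)).le_cent_of_O (coset_mem_quo _ ht)
    (coset_ne_one (odd_O X) h1 t1 (h.sq ht)) (quo_mono _ hP) (isPGroup_quo hp _) ?_ (O_quo X)
  rw [← quo_cent1_of_odd (O_norm X) (odd_O X) (h.le ht) (h.sq ht)]
  exact quo_le_norm _ hc

/-- L1 -/
theorem le_Op (hY : Y ≤ P) (hn : t ∈ 𝐍(Y)) (hYt : ⁅Y, zpowers t⁆ = Y) : Y ≤ Op p X := by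
  have h1 : Y ≤ O X := hYt.ge.trans ((commutator_mono hY le_rfl).trans
    (h.commutator_le_O ht t1 hP hp hc))
  refine (Sig.le_Op_of_commutator (Q := P ⊓ O X) Nat.prime_two (by
    rw [Nat.card_zpowers, orderOf_eq_two (h.sq ht) t1]) (sol_of_odd (odd_O X))
    (odd_O X).not_two_dvd_nat (zpowers_le.2 (O_norm X (h.le ht))) inf_le_right (hp.to_le inf_le_left)
    (le_inf hY h1) (zpowers_le.2 hn) hYt (fun e _ => h.ab Y (hY.trans hP) (e ▸ hp.to_le hY))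
    ?_).trans (Op_le_of_normal p (Opi_normal _ X))
  rw [cent_zpowers]
  exact le_norm_inf ((inf_le_inf_right _ (Opi_le _ _)).trans hc) (le_norm_of_le inf_le_left)

end E8

theorem E8.kw_aux (h : E8 A X) (hO : O X = ⊥) (ha : a ∈ A) (a1 : a ≠ 1) (hY : Y ⊴ X ⊓ 𝐂[a])
    (ho : Odd ♯Y) : ∃ b ∈ A, b ≠ 1 ∧ b ≠ a ∧ Y ≤ 𝐂[b] := by
  have k : Y ≤ 𝐂(A) → ∃ b ∈ A, b ≠ 1 ∧ b ≠ a ∧ Y ≤ 𝐂[b] := fun e =>
    (h.exists_ne a).imp fun b hb => ⟨hb.1, hb.2.1, hb.2.2, e.trans (cent_le_cent1 hb.1)⟩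
  have h1 := hY.le.trans inf_le_left
  have h2 := (h.cent ha).le.trans hY.norm
  obtain ⟨x, hx, x1, e⟩ | e | ⟨J, hJ, hA, e⟩ := h.tri hO
  · by_cases e' : x = a
    · exact k ((le_O (inf_eq_left.2 (e' ▸ e) ▸ hY) ho).trans (hO.le.trans bot_le))
    · exact ⟨x, hx, x1, e', h1.trans e⟩
  · exact k (le_cent_of_inf_eq_bot (h1.trans e) h2 (h.inf_eq_bot ho))
  · refine k (OO.commutator_eq_bot_iff.1 (eq_bot_iff.2 (le_trans (le_inf (commutator_le_left' h2)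
      (le_inf ((commutator_mono le_rfl hA).trans (commutator_le_right' (h1.trans hJ.norm)))
        ((commutator_le_left' h2).trans (hY.le.trans inf_le_right)))) ?_)))
    exact e a ha a1 ▸ le_O (hY.inf_right (inf_le_inf_right _ hJ.le)) (odd_of_le ho inf_le_left)

theorem E8.kw (h : E8 A X) (ha : a ∈ A) (a1 : a ≠ 1) (hY : Y ⊴ X ⊓ 𝐂[a]) (ho : Odd ♯Y) :
    ∃ b ∈ A, b ≠ 1 ∧ b ≠ a ∧ ⁅Y, zpowers b⁆ ≤ O X := by
  have h1 := h.le.trans (O_norm X)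
  obtain ⟨b, hb, b1, b2, e⟩ := (h.quo (O_norm X) (odd_O X)).kw_aux (O_quo X) (coset_mem_quo _ ha)
    (coset_ne_one (odd_O X) (h1 ha) a1 (h.sq ha))
    (quo_cent1_of_odd (O_norm X) (odd_O X) (h.le ha) (h.sq ha) ▸ hY.quo _) (odd_quo ho _)
  obtain ⟨c, hc, rfl⟩ := (mem_quo_of_le h1).1 hb
  refine ⟨c, hc, fun e => b1 (e ▸ coset_one _), fun e => b2 (e ▸ rfl), ?_⟩
  rwa [← quo_le_cent_iff ((hY.le.trans inf_le_left).trans (O_norm X)) (zpowers_le.2 (h1 hc)),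
    quo_zpowers (h1 hc), cent_zpowers]

/-- if all involutions of `S` are squares then `S` is normal modulo the core -/
theorem KX.le_norm (h : KX X) (hS : Syl 2 S X) (hO : O X = ⊥)
    (hs : ∀ v ∈ S, v ≠ 1 → v * v = 1 → ∃ s ∈ S, s * s = v) : X ≤ 𝐍(S) := by
  have ha := h.ab S hS.le hS.isPGroup
  have hD := (Op_normal 2 X).cent
  have hSD := hS.mono (le_inf hS.le (ha.le_cent.trans (cent_anti (Op_le_syl hS)))) hD.le
  by_cases h0 : der (X ⊓ 𝐂(Op 2 X)) = ⊥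
  · exact hD.norm.trans (hSD.norm_le_norm_of_normal (le_norm_of_ab (ab_iff_der.2 h0) hSD.le))
  have h1 := Core.subnormalIn_of_le_normalizer hD.der.le hD.der.norm
  obtain ⟨L, k1, ⟨k2, k3⟩, k4⟩ := Core.exists_minimal_le
    (P := fun L => Core.SubnormalIn L X ∧ L ≠ ⊥) ⟨h1, h0⟩
  have k5 : Smp L := fun N hN => or_iff_not_imp_left.2 fun e =>
    k4 N ⟨(Core.subnormalIn_of_le_normalizer hN.le hN.norm).trans k2, e⟩ hN.le
  have k6 : Syl 2 (S ⊓ L) L := k2.induction (P := fun K => Syl 2 (S ⊓ K) K)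
    (by rwa [inf_eq_left.2 hS.le]) fun A B e1 e2 _ e => by
      simpa only [inf_assoc, inf_eq_right.2 e1] using e.inf_normal ⟨e1, e2⟩
  obtain ⟨v, hv, v1⟩ := exists_mem_ne_one (k6.ne_bot (even_iff_two_dvd.1 (Nat.not_odd_iff_even.1
    fun e => k3 (eq_bot_iff.2 (hO ▸ k2.le_piCoreOf (odd_iff.1 e))))))
  have k7 : ¬ Ab L := fun e => not_mem_der hSD ha hv.1 v1 (inf_le_left.trans (inf_le_right.trans
    (cent_le_cent1 (((Core.subnormalIn_of_le_normalizer k6.le (le_norm_of_ab e k6.le)).trans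
      k2).le_pCoreOf k6.isPGroup hv)))) (k1 hv.2)
  have k8 : S ≤ 𝐍(L) := fun s hs => inv_mem_iff.1 (mem_norm_of_conj_le (conj_le_iff_le_inv_conj.2 (by
    rw [inv_inv]
    refine inf_eq_left.1 (k4 _ ⟨k2.inf (k2.map_conj_of_mem (le_norm_self X (hS.le hs))), fun e => v1
      (mem_bot.1 (e ▸ ⟨hv.2, ?_⟩))⟩ inf_le_left)
    exact mem_cent_iff_conj.1 (ha.le_cent hs) v hv.1 ▸ conj_mem_conj hv.2)))
  have k9 : ∀ w ∈ S ⊓ L, w * w = 1 := fun w hw =>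
    (h.mono k2.le).sq k5 k7 hw.2 (hS.isPGroup.to_le (zpowers_le.2 hw.1))
  refine absurd (der_mono (le_sup_left : L ≤ L ⊔ S) ((k5.perfect k7).ge hv.2)) (not_mem_der
    (hS.mono le_sup_right (sup_le k2.le hS.le)) ha hv.1 v1 fun g hg => mem_cent1_iff_conj.2 ?_)
  obtain ⟨s, hs, rfl⟩ := hs v hv.1 v1 (k9 v hv)
  have h2 := conj_mem_of_norm hg.2 hs
  have h3 := k9 _ ⟨S.mul_mem h2 (S.inv_mem hs), (ab_quo_iff (normalIn_sup_left k8).norm).1
    (quo_self_sup k8 ▸ ab_quo ha L) (commutator_mem_commutator hg.1 (mem_sup_right hs))⟩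
  rw [(show Commute s⁻¹ (g * s * g⁻¹) from ab_iff.1 ha _ (inv_mem hs) _ h2).mul_mul_mul_comm,
    ← mul_inv_rev, mul_inv_eq_one] at h3
  rwa [← conj_mul]

end Cfsg.Agent.W3
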