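import Cfsg.Agent.Lib.GW.Local1
import Cfsg.Agent.Lib.GW.Main
import Cfsg.Agent.Lib.R1.Hyp3

/-!
# Bender's uniqueness criterion without solvability, and elementary tools
-/

set_option autoImplicit false

namespace Cfsg.Agent.W3

open Subgroup Cfsg.Agent.OO Cfsg.Agent.Coprime Cfsg.Agent.Sig Cfsg.Agent.GW
open scoped commutatorElement Pointwise

universe u

variable {G : Type u} [Group G] [Finite G] {A B D E H I K M N P Q S T X Y Z : Subgroup G} {p q : ℕ}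
  {a b g t v x y : G}

theorem arr_Op [Fact p.Prime] (h : Arr M N) : Op p M ⊓ 𝐂(Op p M ⊓ N) ≤ N := by
  refine le_trans (le_inf (inf_le_left.trans (Op_le_Fit p M)) ?_) h
  have h1 := dprod_Op_of_nil p (nil_of_le (Fit_nil M) (inf_le_left : Fit M ⊓ N ≤ _))
  rw [← h1.sup_eq]
  refine le_cent_sup (inf_le_right.trans (cent_anti (le_inf (le_Op_of_le_Fit (Op_isPGroup _ _)
    ((Op_le _ _).trans inf_le_left)) ((Op_le _ _).trans inf_le_right)))) ?_
  exact le_cent_of_nil_of_coprime (Fit_nil M) (inf_le_left.trans (Op_le_Fit p M))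
    ((Opi_le _ _).trans inf_le_left) (coprime_of_isPGroup ((Op_isPGroup p M).to_le inf_le_left)
      (Op'_piGrp _ _))

theorem sol_of_arr (hM : FS M) (h : Arr M N) (hE : E ≤ M ⊓ 𝐂(Fit M ⊓ N)) : Sol E := by
  induction E using Core.subgroup_induction_lt with
  | h E ih =>
  by_cases h1 : ∃ p : ℕ, p.Prime ∧ Oup p E ≠ E
  · obtain ⟨p, hp, h1⟩ := h1
    have := Fact.mk hp
    exact sol_of_normal_of_quo (Oup_normal p E) (ih _ (lt_of_le_of_ne (Oup_le p E) h1)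
      ((Oup_le p E).trans hE)) (sol_of_isPGroup ((isPGroup_quo_iff (Oup_normal p E).norm).2
        (relIndex_Oup p E)))
  push Not at h1
  refine sol_of_nil (nil_of_le (Fit_nil M) (le_trans (le_inf (hE.trans inf_le_left)
    (le_cent_Fit_of_forall fun p hp => (h1 p hp.out).ge.trans (Oup_le_iff.2 fun x hx hc => ?_))) hM))
  have h2 : Op p M ⊓ N ≤ Op p M ⊓ 𝐂(zpowers x) := le_inf inf_le_left (le_cent_symm
    ((zpowers_le.2 (hE hx).2).trans (cent_anti (inf_le_inf_right _ (Op_le_Fit p M)))))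
  exact coprime_nil_faithful_cent_stab (A := zpowers x) (zpowers_le.2 ((Op_normal p M).norm (hE hx).1))
    (coprime_card_of_isPGroup (by rwa [Nat.card_zpowers]) (Op_isPGroup p M)).symm (Op_nil p M)
    ((le_inf inf_le_left ((inf_le_inf_left _ (cent_anti h2)).trans (arr_Op h))).trans h2)
    (mem_zpowers x)

theorem sol_of_der (h : Sol (der D)) : Sol D :=
  sol_of_normal_of_quo (der_normal D) h (sol_of_ab (ab_quo_of_der_le le_rfl))

/-- `F(N)` is self-centralizing if `F(M)` is, `M` points to `N` and `C_N(F(N)) ≤ M`. -/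
theorem fs_of_arr (hM : FS M) (h : Arr M N) (hc : N ⊓ 𝐂(Fit N) ≤ M) : FS N := by
  have h1 := (Fit_normal N).cent
  have h2 : ⁅⁅Fit M ⊓ N, N ⊓ 𝐂(Fit N)⁆, N ⊓ 𝐂(Fit N)⁆ = ⊥ := by
    refine commutator_eq_bot_iff'.2 (inf_le_right.trans (cent_anti (le_trans ?_
      (((Fit_inf_le hc).trans (Fit_le_of_normal h1))))))
    exact le_inf ((commutator_le_left' (le_norm_inf (hc.trans (Fit_normal M).norm)
      (le_norm_of_le inf_le_left))).trans inf_le_left)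
      (commutator_le_right' (inf_le_right.trans h1.norm))
  exact fs_of_sol (sol_of_der (sol_of_arr hM h (le_inf ((der_le _).trans hc)
    (OO.commutator_eq_bot_iff.1 (three_subgroup (by rwa [commutator_comm (N ⊓ _) (_ ⊓ N)]) h2)))))

theorem fs_of_sol_cent (h : Sol (H ⊓ 𝐂(O H))) : FS H := by
  have h1 := (Fit_normal H).cent
  have h2 : ⁅⁅O H, H ⊓ 𝐂(Fit H)⁆, H ⊓ 𝐂(Fit H)⁆ = ⊥ := by
    refine commutator_eq_bot_iff'.2 (inf_le_right.trans (cent_anti (le_trans ?_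
      ((cent_sub_Fitting (sol_of_odd (odd_O H))).trans (Fit_le_of_normal (Opi_normal _ H))))))
    exact le_inf (commutator_le_left' (inf_le_left.trans (O_norm H)))
      ((commutator_le_right' ((Opi_le _ _).trans h1.norm)).trans (inf_le_right.trans
        (cent_anti (Fit_le_of_normal (Opi_normal _ H)))))
  exact fs_of_sol (sol_of_der (sol_of_le h (le_inf ((der_le _).trans inf_le_left)
    (OO.commutator_eq_bot_iff.1 (three_subgroup (by rwa [commutator_comm (H ⊓ _) (O H)]) h2)))))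

/-- Bender's uniqueness criterion in characteristic `p` -/
theorem eq_of_char' (hG : Smp (⊤ : Subgroup G)) [Fact p.Prime] (hp2 : p ≠ 2)
    (h2 : ∀ P : Subgroup G, IsPGroup 2 P → Ab P)
    (hM : IsCoatom M) (hI : I ≤ M) (h0 : I ≠ ⊥) (ha : Arr M I)
    (hc : ∀ N, IsCoatom N → I ≤ N → Core.IsCharIn p N) (hN : IsCoatom N) (hIN : I ≤ N) : N = M := by
  by_contra hne
  obtain ⟨N, ⟨hN, hIN, hne⟩, hmax⟩ := Set.exists_max_image {N | IsCoatom N ∧ I ≤ N ∧ N ≠ M}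
    (fun N => partn {p} ♯(M ⊓ N)) (Set.toFinite _) ⟨N, hN, hIN, hne⟩
  obtain ⟨R, hR⟩ := exists_syl p (M ⊓ N)
  have hcM := hc M hM hI
  have hF := Fit_eq_Op (Op'_eq_bot_of_isCharIn hcM)
  have h4' := arr_mono ha (inf_le_right.trans hIN)
  have h1 : Op' p (M ⊓ N) = ⊥ := by
    have h3 : Op p M ⊓ N ≤ 𝐂(Op' p (M ⊓ N)) := ((inf_le_inf_right _ (le_inf le_rfl (Op_le p M))).trans
      ((inf_assoc _ _ _).le.trans (Op_inf_le p inf_le_left))).trans (le_cent_symm (Op'_le_cent_Op p _))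
    have h4 := h4'
    have h5 := coprime_of_isPGroup (Op_isPGroup p M) (Op'_piGrp p (M ⊓ N))
    rw [Arr, hF] at h4
    rw [eq_bot_iff, ← inf_eq_bot_of_coprime_card h5]
    exact le_inf ((le_inf ((Opi_le _ _).trans inf_le_left) (coprime_nil_faithful_cent_stab
      (((Opi_le _ _).trans inf_le_left).trans (Op_normal p M).norm) h5 (Op_nil p M)
      (le_inf inf_le_left ((le_inf inf_le_left ((inf_le_inf_left _ (cent_anti
        (le_inf inf_le_left h3))).trans h4)).trans h3)))).trans hcM) le_rfl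
  have h3 : Core.IsCharIn p (M ⊓ N) := by
    have h3 := fs_of_arr (show FS M by rw [FS, hF]; exact hcM) (arr_mono h4' le_rfl)
      (inf_le_left.trans inf_le_left)
    rwa [FS, Fit_eq_Op h1] at h3
  have h4 := puig_normal hp2 (fun P _ => h2 P) h3 hR
  have h5 : Zc (puig R) ≠ ⊥ := fun e => h0 (eq_bot_iff.2 ((le_inf hI hIN).trans (by
    have e' : Op p (M ⊓ N) = ⊥ := eq_bot_iff.2 (trivg_center_Puig_pgroup hR.isPGroup e ▸ Op_le_syl hR)
    simpa [Core.IsCharIn, show pCoreOf p (M ⊓ N) = ⊥ from e'] using h3)))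
  have k : ∀ X Y, IsCoatom X → I ≤ X → R ≤ X → Syl p R Y → R ≤ Y ⊓ X → X ⊓ 𝐍(Zc (puig R)) ≤ Y →
      𝐍(Zc (puig R)) = X := fun X Y hX hIX hRX hY _ h => hG.norm_eq hX (puig_normal hp2
    (fun P _ => h2 P) (hc X hX hIX) (IsSylowIn.of_syl_norm hRX (hY.mono (le_inf hRX (le_norm_self R))
      ((inf_le_inf_left _ (norm_le_norm_center_puig R)).trans h)))) h5
  obtain ⟨N', hN', h6⟩ := hG.exists_coatom h5 fun e => hM.1 (top_le_iff.1 (e ▸ h4.le.trans inf_le_left))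
  have h7 : M ⊓ N ≤ M ⊓ N' := le_inf inf_le_left (h4.norm.trans h6)
  by_cases e : N' = M
  · exact hne ((hN.le_iff.1 ((k N _ hN hIN (hR.le.trans inf_le_right) hR (le_inf hR.le
      (hR.le.trans inf_le_right)) (le_inf (inf_le_right.trans (e ▸ h6)) inf_le_left)).ge.trans
      (e ▸ h6))).resolve_left hM.1).symm
  · obtain ⟨R', hR'⟩ := exists_syl p (M ⊓ N')
    have h8 := hR'.of_card_le (hR.le.trans h7) hR.isPGroup (by
      rw [hR.card_eq_partn, hR'.card_eq_partn]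
      exact hmax N' ⟨hN', ((le_inf hI hIN).trans h7).trans inf_le_right, e⟩)
    exact e ((hM.le_iff.1 ((k M _ hM hI (hR.le.trans inf_le_left) h8 (le_inf h8.le
      (hR.le.trans inf_le_left)) (inf_le_inf_left _ h6)).ge.trans h6)).resolve_left hN'.1)

theorem fs_of_char [Fact p.Prime] (h : Core.IsCharIn p M) : FS M := by
  rw [FS, Fit_eq_Op (Op'_eq_bot_of_isCharIn h)]; exact h

theorem eq_of_sq_eq (hx : Odd (orderOf x)) (hy : Odd (orderOf y)) (h : x * x = y * y) : x = y := by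
  obtain ⟨k, hk⟩ := hx.mul hy
  have k : ∀ z : G, orderOf z ∣ 2 * k + 1 → z = (z * z) ^ (k + 1) := fun z hz => by
    rw [← sq, ← pow_mul, show 2 * (k + 1) = 2 * k + 1 + 1 by ring, pow_succ,
      orderOf_dvd_iff_pow_eq_one.1 hz, one_mul]
  rw [k x (hk ▸ dvd_mul_right _ _), k y (hk ▸ dvd_mul_left _ _), h]

theorem inv_comm (hx : Odd (orderOf x)) (h1 : v * x * v⁻¹ = x⁻¹) (h2 : y ∈ 𝐂[v])
    (h3 : ⁅x, y⁆ ∈ 𝐂[v]) : y ∈ 𝐂[x] := by
  have h4 := mem_cent1_iff_conj.1 (mem_cent1_comm.1 h2)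
  have h5 := mem_cent1_iff_conj.1 (mem_cent1_comm.1 h3)
  have h6 : v * (y * x * y⁻¹) * v⁻¹ = (y * x * y⁻¹)⁻¹ := by
    rw [show v * (y * x * y⁻¹) * v⁻¹ = v * y * v⁻¹ * (v * x * v⁻¹) * (v * y * v⁻¹)⁻¹ by group, h1, h4]
    group
  rw [commutatorElement_def, show v * (x * y * x⁻¹ * y⁻¹) * v⁻¹ =
    v * x * v⁻¹ * (v * (y * x * y⁻¹) * v⁻¹)⁻¹ by group, h1, h6] at h5
  refine mem_cent1_iff_conj.2 (eq_of_sq_eq (by rwa [orderOf_conj]) hx ?_)
  calc _ = x * (x⁻¹ * (y * x * y⁻¹)⁻¹⁻¹) * (y * x * y⁻¹) := by group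
    _ = _ := by rw [h5]; group

/-- Burnside's fusion lemma for abelian Sylow subgroups -/
theorem fusion [Fact p.Prime] (hS : Syl p S K) (ha : Ab S) (hx : x ∈ S) (hg : g ∈ K)
    (hy : g * x * g⁻¹ ∈ S) : ∃ n ∈ K ⊓ 𝐍(S), n * x * n⁻¹ = g * x * g⁻¹ := by
  have h1 := hS.mono (le_inf hS.le (ha.le_cent.trans (cent_le_cent1 hy))) inf_le_left
  have h2 := (hS.conj_of_mem hg).mono (le_inf (conj_le_of_mem hg hS.le) ((conj_mono g
    (ha.le_cent.trans (cent_le_cent1 hx))).trans (cent1_conj g x).ge)) inf_le_left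
  obtain ⟨c, hc, e⟩ := h2.exists_conj' h1
  refine ⟨c * g, ⟨mul_mem hc.1 hg, conj_eq_self_iff.1 (by rw [← conj_conj, ← e])⟩, ?_⟩
  rw [← mem_cent1_iff_conj.1 hc.2]
  group

/-- the `Z*` theorem for abelian Sylow 2-subgroups -/
theorem zst (hS : Syl 2 S K) (ha : Ab S) (hx : x ∈ S) (h2 : x * x = 1) (h : K ⊓ 𝐍(S) ≤ 𝐂[x]) :
    ⁅K, zpowers x⁆ ≤ O K := by
  have h1 : ∀ g ∈ K, g * x * g⁻¹ * x⁻¹ ∈ O K := fun g hg => by
    have := R1.zstar K ⟨x, hS.le hx⟩ (Subtype.ext h2) (fun ⟨g, hK⟩ hg => Subtype.ext ?_) ⟨g, hg⟩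
    · rw [O, Op'_eq_map]; exact ⟨_, this, rfl⟩
    have h3 : g * x * g⁻¹ ∈ K ⊓ 𝐂[x] := ⟨K.mul_mem (K.mul_mem hK (hS.le hx)) (K.inv_mem hK),
      mem_cent1.2 (congrArg Subtype.val hg).symm⟩
    obtain ⟨c, hc, e⟩ := (hS.mono (le_inf hS.le (ha.le_cent.trans (cent_le_cent1 hx)))
      inf_le_left).exists_conj_le (zpowers_le.2 h3)
      (abelem_isPGroup (abelem_zpowers (by rw [sq, conj_sq h2])))
    obtain ⟨n, hn, e'⟩ := fusion hS ha hx (mul_mem hc.1 hK) (by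
      convert e (conj_mem_conj (mem_zpowers _)) using 1; group)
    rw [mem_cent1_iff_conj.1 (h hn)] at e'
    change g * x * g⁻¹ = x
    calc _ = c⁻¹ * (c * g * x * (c * g)⁻¹) * c⁻¹⁻¹ := by group
      _ = x := by rw [← e']; exact mem_cent1_iff_conj.1 (inv_mem hc.2)
  refine commutator_le.2 fun g hg y hy => ?_
  rcases (mem_zp h2).1 hy with rfl | rfl
  · simp
  · exact h1 g hg

open scoped IsMulCommutative in
/-- transfer into an abelian Sylow subgroup -/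
theorem not_mem_der [Fact p.Prime] (hS : Syl p S K) (ha : Ab S) (hx : x ∈ S) (h1 : x ≠ 1)
    (h : K ⊓ 𝐍(S) ≤ 𝐂[x]) : x ∉ der K := fun hc => by
  have : IsMulCommutative S := ha
  have h2 := MonoidHom.transfer_eq_pow (MonoidHom.id (S.subgroupOf K)) ⟨x, hS.le hx⟩ fun k g hg => by
    obtain ⟨n, hn, e⟩ := fusion hS ha (pow_mem hx k) (inv_mem g.2) (by simpa [mem_subgroupOf] using hg)
    rw [mem_cent1_iff_conj.1 (cent1_le_of_mem_zpowers (pow_mem (mem_zpowers x) k) (h hn))] at e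
    exact Subtype.ext (by simpa using e.symm)
  obtain ⟨y, hy, rfl⟩ := der_eq_map K ▸ hc
  have h3 := Abelianization.commutator_subset_ker (MonoidHom.transfer (MonoidHom.id (S.subgroupOf K))) hy
  rw [MonoidHom.mem_ker] at h3
  have h4 : (y : G) ^ S.relIndex K = 1 := congrArg (·.1.1) (h2.symm.trans h3)
  exact h1 (orderOf_eq_one_iff.1 ((hS.piGrp.piElt hx).coprime hS.hall.compl |>.eq_one_of_dvd
    (orderOf_dvd_of_pow_eq_one h4)))

/-- a group of odd order acting on the seven involutions -/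
theorem fix_or_trans (hA : ♯A = 8) (hZ : Z ≤ 𝐍(A)) (hS : Syl 2 S Z) (hc : S ≤ 𝐂(A)) :
    (∃ x ∈ A, x ≠ 1 ∧ Z ≤ 𝐂[x]) ∨ ∀ a ∈ A, a ≠ 1 → ∀ b ∈ A, b ≠ 1 → ∃ g ∈ Z, g * a * g⁻¹ = b := by
  refine or_iff_not_imp_left.2 fun h a ha a1 b hb b1 => by_contra fun hab => ?_
  obtain ⟨o, ho⟩ : ∃ o : G → Set G, o = fun a => (fun g => g * a * g⁻¹) '' Z := ⟨_, rfl⟩
  have k1 : ∀ a ∈ sharp A, 3 ≤ (o a).ncard ∧ Odd (o a).ncard ∧ o a ⊆ sharp A := fun a ha => by
    have h1 : Odd (o a).ncard := by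
      rw [ho, ncard_conj, ← inf_relIndex_left, ← Nat.not_even_iff_odd, even_iff_two_dvd]
      exact fun e => hS.not_dvd (e.trans (relIndex_dvd_of_le_left _
        (le_inf hS.le (hc.trans (cent_le_cent1 ha.1)))))
    have h2 : (o a).ncard ≠ 1 := fun e => h ⟨a, ha.1, ha.2, by rwa [ho, ncard_conj, relIndex_eq_one] at e⟩
    refine ⟨by obtain ⟨k, hk⟩ := h1; omega, h1, ?_⟩
    rw [ho]
    rintro _ ⟨g, hg, rfl⟩
    exact conj_mem_sharp (hZ hg) ha
  have k2 : ∀ a b, b ∉ o a → Disjoint (o a) (o b) := fun a b hb => by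
    rw [ho] at hb ⊢
    refine Set.disjoint_left.2 ?_
    rintro _ ⟨g, hg, rfl⟩ ⟨g', hg', e⟩
    exact hb ⟨g'⁻¹ * g, mul_mem (inv_mem hg') hg, by
      calc g'⁻¹ * g * a * (g'⁻¹ * g)⁻¹ = g'⁻¹ * (g * a * g⁻¹) * g' := by group
        _ = b := by rw [← show g' * b * g'⁻¹ = g * a * g⁻¹ from e]; group⟩
  have h7 : (sharp A).ncard = 7 := by rw [ncard_sharp, hA]
  obtain ⟨a2, ⟨i, a3⟩, a4⟩ := k1 a ⟨ha, a1⟩
  obtain ⟨b2, ⟨j, b3⟩, b4⟩ := k1 b ⟨hb, b1⟩
  have h1 := Set.ncard_union_eq (k2 a b (by rw [ho]; exact hab))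
  have h2 := Set.ncard_le_ncard (Set.union_subset a4 b4)
  obtain ⟨c, hc, c1⟩ := Set.exists_mem_notMem_of_ncard_lt_ncard (s := o a ∪ o b) (t := sharp A)
    (by omega)
  obtain ⟨c2, -, c4⟩ := k1 c hc
  have h3 := Set.ncard_union_eq (Set.disjoint_union_left.2
    ⟨k2 a c fun e => c1 (.inl e), k2 b c fun e => c1 (.inr e)⟩)
  have h4 := Set.ncard_le_ncard (Set.union_subset (Set.union_subset a4 b4) c4)
  omega

theorem se_of_le (hS : Syl 2 S ⊤) (hM : M ≠ ⊤) (hSM : S ≤ M) (a1 : a ≠ 1) (a2 : a * a = 1)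
    (hc : 𝐂[a] ≤ M) (h : ∀ b ∈ S, b ≠ 1 → b * b = 1 → ∃ g ∈ M, g * a * g⁻¹ = b) : ZL.SE M := by
  have k : ∀ z ∈ M, z ≠ 1 → z * z = 1 → ∃ g ∈ M, g * a * g⁻¹ = z := fun z hz z1 z2 => by
    obtain ⟨m, hm, e⟩ := (hS.mono hSM le_top).exists_conj_le (zpowers_le.2 hz)
      (abelem_isPGroup (abelem_zpowers (by rw [sq, z2])))
    obtain ⟨g, hg, e⟩ := h _ (e (conj_mem_conj (mem_zpowers z))) (conj_ne_one.2 z1) (conj_sq z2 m)
    exact ⟨m⁻¹ * g, mul_mem (inv_mem hm) hg, by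
      calc m⁻¹ * g * a * (m⁻¹ * g)⁻¹ = m⁻¹ * (g * a * g⁻¹) * m := by group
        _ = z := by rw [e]; group⟩
  refine ⟨hM, orderOf_eq_two a2 a1 ▸ orderOf_dvd_card (hc (mem_cent1_self a)), fun g hg e => hg ?_⟩
  obtain ⟨z, hz, e⟩ := cauchy Nat.prime_two e
  have z1 : z ≠ 1 := fun e' => by simp [e'] at e
  have z2 : z * z = 1 := by rw [← sq, ← e, pow_orderOf_eq_one]
  obtain ⟨m, hm, e1⟩ := k z hz.1 z1 z2
  obtain ⟨n, hn, e2⟩ := k _ (mem_conj.1 hz.2) (conj_ne_one'.2 z1) (by simpa using conj_sq z2 g⁻¹)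
  have := hc (mem_cent1_iff_conj.2 (show m⁻¹ * g * n * a * (m⁻¹ * g * n)⁻¹ = a by
    calc _ = m⁻¹ * g * (n * a * n⁻¹) * g⁻¹ * m := by group
      _ = a := by rw [e2, ← e1]; group))
  exact (mul_mem_cancel_left (inv_mem hm)).1 ((mul_mem_cancel_right hn).1 this)

/-- `X = H × ⟨x⟩` -/
structure Half (X H : Subgroup G) (x : G) : Prop where
  normal : H ⊴ X
  mem : x ∈ X
  sq : x * x = 1
  cent : X ≤ 𝐂[x]
  not_mem : x ∉ H
  or : ∀ g ∈ X, g ∈ H ∨ g * x ∈ H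

open scoped IsMulCommutative in
theorem exists_half (hA : Syl 2 A X) (he : IsElementaryAbelian 2 A) (hx : x ∈ A) (x1 : x ≠ 1)
    (hc : X ≤ 𝐂[x]) : ∃ H, Half X H x := by
  have : IsMulCommutative A := abelem_ab he
  have x2 : x * x = 1 := by simpa [sq] using he.2 x hx
  obtain ⟨φ, h1, h2⟩ : ∃ φ : X →* G, (∀ g, φ g ∈ A) ∧ φ ⟨x, hA.le hx⟩ = x := by
    refine ⟨(X.subtype.comp (A.subgroupOf X).subtype).comp
      (MonoidHom.transfer (MonoidHom.id (A.subgroupOf X))), fun g =>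
        (MonoidHom.transfer (MonoidHom.id (A.subgroupOf X)) g).2, ?_⟩
    have h2 := MonoidHom.transfer_eq_pow (MonoidHom.id (A.subgroupOf X)) ⟨x, hA.le hx⟩ fun k g _ =>
      Subtype.ext (by simpa using mem_cent1_iff_conj.1 (cent1_le_of_mem_zpowers
        (pow_mem (mem_zpowers x) k) (hc (inv_mem g.2))))
    obtain ⟨k, hk⟩ := Nat.not_even_iff_odd.1 (mt even_iff_two_dvd.1 hA.not_dvd)
    refine (congrArg (·.1.1) h2).trans (show x ^ A.relIndex X = x from ?_)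
    rw [hk, pow_succ, pow_mul, sq, x2, one_pow, one_mul]
  obtain ⟨B, hB⟩ := exists_dprod_of_abelem he (zpowers_le.2 hx)
  have : (B.comap φ).Normal := ⟨fun y hy g => by
    rw [mem_comap, map_mul, map_mul, map_inv, ab_iff.1 (abelem_ab he) _ (h1 g) _ (h1 y),
      mul_inv_cancel_right]
    exact hy⟩
  have k : ∀ g : X, (g : G) ∈ (B.comap φ).map X.subtype ↔ φ g ∈ B := fun g =>
    mem_map_iff_mem X.subtype_injective
  refine ⟨_, normalIn_map_subtype (B.comap φ), hA.le hx, x2, hc, fun e => x1 (mem_bot.1 (hB.inf_eq ▸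
    (⟨mem_zpowers x, h2 ▸ (k ⟨x, hA.le hx⟩).1 e⟩ : x ∈ zpowers x ⊓ B))), fun g hg => ?_⟩
  obtain ⟨b, hb, y, hy, e⟩ := hB.symm.mem_iff.1 (h1 ⟨g, hg⟩)
  rcases (mem_zp x2).1 hy with rfl | rfl
  · exact .inl ((k ⟨g, hg⟩).2 (by rwa [← e, mul_one]))
  · exact .inr ((k (⟨g, hg⟩ * ⟨y, hA.le hx⟩)).2 (by rwa [map_mul, h2, ← e, mul_assoc, x2, mul_one]))

namespace Half

variable (h : Half X H x)
include h

omit [Finite G] in
theorem le_sup : X ≤ H ⊔ zpowers x := fun g hg => (h.or g hg).elim (mem_sup_left ·) fun e =>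
  (mul_mem_cancel_right (mem_sup_right (mem_zpowers x))).1 (mem_sup_left e)

omit [Finite G] in
theorem conj (g : G) : Half (g •ᶜ X) (g •ᶜ H) (g * x * g⁻¹) :=
  ⟨h.normal.conj g, conj_mem_conj h.mem, conj_sq h.sq g, cent1_conj g x ▸ conj_mono g h.cent,
    mt conj_mem_conj_iff.1 h.not_mem, fun y hy => by
      obtain ⟨z, hz, rfl⟩ := mem_conj_iff_exists.1 hy
      rw [conj_mul, conj_mem_conj_iff, conj_mem_conj_iff]
      exact h.or z hz⟩

theorem mem_of_odd (hg : g ∈ X) (ho : Odd (orderOf g)) : g ∈ H := (h.or g hg).elim id fun e => by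
  have := mul_mem e e
  rw [(show Commute x g from (mem_cent1.1 (h.cent hg)).symm).mul_mul_mul_comm, h.sq, mul_one,
    ← _root_.sq] at this
  exact zpowers_le.2 this (mem_zpowers_pow_iff.2 (Nat.coprime_two_left.2 ho))

theorem le_of_odd (hY : Y ≤ X) (ho : Odd ♯Y) : Y ≤ H := fun _ hy =>
  h.mem_of_odd (hY hy) (odd_of_mem ho hy)

theorem O_eq : O H = O X := le_antisymm (Opi_le_of_normal _ h.normal)
  (Opi_le_Opi h.normal.le (h.le_of_odd (Opi_le _ _) (odd_O X)))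

theorem exists_pair (hA : Syl 2 A X) (he : IsEp 2 3 A X) (ht : t ∈ A ⊓ H) (t1 : t ≠ 1) :
    ∃ s ∈ A, Pair H t s := by
  have hx := (hA.mem_of_mem_norm h.mem (cent_le_norm _ (le_cent1_iff.1 (hA.le.trans h.cent)))
    (isPGroup_zpowers_iff.1 (abelem_isPGroup (abelem_zpowers (by rw [_root_.sq, h.sq])))))
  have k : ∀ a ∈ A, a * a = 1 := fun a ha => by simpa [_root_.sq] using he.abelem.2 a ha
  have h8 : ¬ 8 ∣ ♯H := fun e => h.not_mem (eq_of_le_of_card_le inf_le_left (by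
    rw [he.card, (hA.inf_normal h.normal).card_eq_partn]
    exact Nat.le_of_dvd (partn_pos _ _) (dvd_partn (card_pos' _).ne' e
      (isPiNum_singleton_pow Nat.prime_two 3))) |>.ge hx).2
  obtain ⟨s, hs, s1⟩ : ∃ s ∈ A, s ∉ S4 t x := SetLike.not_le_iff_exists.1 fun e => by
    have := (card_le e).trans (Nat.le_of_dvd (Nat.mul_pos (card_pos' _) (card_pos' _)) (card_sup_dvd
      (.inl (le_norm_of_le_cent (le_cent_mono he.le_cent (zpowers_le.2 ht.1) (zpowers_le.2 hx))))))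
    rw [he.card, Nat.card_zpowers, Nat.card_zpowers, orderOf_eq_two (k t ht.1) t1,
      orderOf_eq_two h.sq fun e => h.not_mem (e ▸ one_mem _)] at this
    omega
  have k' : ∀ s ∈ A ⊓ H, s ∉ S4 t x → ∃ s ∈ A, Pair H t s := fun s hs s1 =>
    ⟨s, hs.1, ht.2, hs.2, t1, fun e => s1 (e ▸ one_mem _), fun e => s1 (e ▸ t_mem_S4 t x), k t ht.1,
      k s hs.1, ab_iff.1 he.ab t ht.1 s hs.1, h8⟩
  exact (h.or s (hA.le hs)).elim (fun e => k' s ⟨hs, e⟩ s1) fun e => k' _ ⟨mul_mem hs hx, e⟩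
    fun e' => s1 ((mul_mem_cancel_right (s_mem_S4 t x)).1 e')

end Half

end Cfsg.Agent.W3
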