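import Cfsg.Agent.Lib.W3.Setup
import Cfsg.Agent.Lib.GW.Comp
import Cfsg.Agent.Lib.OO.Pf.BG4_B

/-!
# The rank 3 case of Walter's theorem: the cores are centralized by the Sylow 2-subgroup
-/

set_option autoImplicit false

namespace Cfsg.Agent.W3

open Subgroup Cfsg.Agent.OO Cfsg.Agent.Coprime Cfsg.Agent.Sig Cfsg.Agent.GW Cfsg.Agent.R1
open scoped commutatorElement Pointwise

universe u

variable {G : Type u} [Group G] [Finite G] {A B D E H I J K L M N P Q S T X Y Z : Subgroup G}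
  {n p q : ℕ} {a b c g k s t v w x y ρ : G}

theorem red_of_comp (h : Comp N L t s ρ) :
    Red (N ⁒ O N) (L ⁒ O N) (coset (O N) t) (coset (O N) s) (coset (O N) ρ) := by
  have hp := h.pair_quo
  have h1 := h.norm h.v4.ρ_mem
  have h2 := h.norm h.v4.t_mem
  have h3 := h.norm h.v4.pair.s_mem
  have hv : V4 (L ⁒ O N) (coset (O N) t) (coset (O N) s) (coset (O N) ρ) :=
    ⟨hp.t_mem, coset_mem_quo _ h.v4.ρ_mem, hp.t_ne, hp.t_sq, hp.comm, by rw [← coset_conj h1 h2, h.v4.ρt],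
      by rw [← coset_conj h1 h3, h.v4.ρs, coset_mul h2 h3], hp.not_dvd⟩
  have h8 : ¬ 8 ∣ ♯(N ⁒ O N) := fun e => h.not_dvd (e.trans (card_quo_dvd _ _))
  have hn := h.normal.quo (O N)
  refine ⟨h8, hn, h.good, hv, eq_bot_iff.2 (O_quo N ▸ le_O hn.cent (by_contra fun e => ?_))⟩
  exact hv.not_le_cent (t_mem_S4 _ _) hv.t_ne (le_cent1_iff.2 (V4.le_of_normal { hv with
    t_mem := hn.le hv.t_mem, ρ_mem := hn.le hv.ρ_mem, not_dvd := h8 } hn.cent e (t_mem_S4 _ _)).2)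

omit [Finite G] in
theorem conj_cube (h : k * w * k⁻¹ = w * c) (hc : k ∈ 𝐂[c]) : k ^ 3 * w * (k ^ 3)⁻¹ = w * c ^ 3 := by
  have h1 := mem_cent1_iff_conj.1 hc
  have h2 : ∀ x, k * (x * c) * k⁻¹ = k * x * k⁻¹ * c := fun x => by rw [← conj_mul, h1]
  rw [show k ^ 3 * w * (k ^ 3)⁻¹ = k * (k * (k * w * k⁻¹) * k⁻¹) * k⁻¹ by simp [pow_succ, mul_assoc],
    h, h2, h, h2, h2, h]
  simp [pow_succ, mul_assoc]

omit [Finite G] in
theorem cube_conj (h : k * w * k⁻¹ = w * c) (hc : Commute w c) :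
    k * w ^ 3 * k⁻¹ = w ^ 3 * c ^ 3 := by
  rw [← hc.mul_pow, ← h, conj_pow]

theorem Dat.pow_mem (h : Dat A t H a v ρ) : ρ ^ 3 ∈ 𝐂(A) := by
  have k : ∀ x y z : G, ρ * x * ρ⁻¹ = y → ρ * y * ρ⁻¹ = z → ρ * z * ρ⁻¹ = x → ρ ^ 3 ∈ 𝐂[x] :=
    fun x y z e1 e2 e3 => mem_cent1_iff_conj.2 (by
      rw [show ρ ^ 3 * x * (ρ ^ 3)⁻¹ = ρ * (ρ * (ρ * x * ρ⁻¹) * ρ⁻¹) * ρ⁻¹ by
        simp [pow_succ, mul_assoc], e1, e2, e3])
  rw [← h.sup_eq, cent_sup, cent_S4, cent_zpowers]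
  exact ⟨⟨k _ _ _ h.v4.ρt h.v4.ρs h.v4.ρts, k _ _ _ h.v4.ρs h.v4.ρts h.v4.ρt⟩, Subgroup.pow_mem _ h.ρt 3⟩

theorem Dat.cent_le (h : Dat A t H a v ρ) : H ⊓ 𝐂[a] ⊓ 𝐂[v] ≤ 𝐂(A) := by
  rw [← h.sup_eq, cent_sup, cent_S4, cent_zpowers]
  exact le_inf (inf_le_inf_right _ inf_le_right) (inf_le_left.trans (inf_le_left.trans h.half.normal.le))

theorem Dat.O_cent_le (h : Dat A t H a v ρ) : O 𝐂(A) ≤ H ⊓ 𝐂[a] ⊓ 𝐂[v] :=
  le_inf (le_inf (h.half.le_of_odd ((Opi_le _ _).trans (cent_le_cent1 h.t_mem)) (odd_O _))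
    ((Opi_le _ _).trans (cent_le_cent1 h.a_mem))) ((Opi_le _ _).trans (cent_le_cent1 h.v_mem))

theorem Dat.commutator_mem (h : Dat A t H a v ρ) (hL : Comp H L a v ρ) (hw : w ∈ O 𝐂(A)) :
    ⁅w, ρ⁆ ∈ O H := by
  have h1 : ⁅w, ρ⁆ ∈ O 𝐂(A) := commutator_le_left' (zpowers_le.2 (norm_le_norm_Opi _ _
    (norm_le_norm_cent A h.ρ_norm))) (commutator_mem_commutator hw (mem_zpowers ρ))
  have h2 := h.O_cent_le h1
  exact hL.mem_O ⟨⟨commutator_le_right' (zpowers_le.2 (hL.normal.norm (h.O_cent_le hw).1.1))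
    (commutator_mem_commutator (mem_zpowers w) hL.v4.ρ_mem), h2.1.2⟩, h2.2⟩ (odd_of_mem (odd_O _) h1)

theorem Dat.der_le (h : Dat A t H a v ρ) (hL : Comp H L a v ρ) : der (O 𝐂(A)) ≤ O H := fun w hw => by
  have h1 := OO.der_le _ hw
  have h2 := h.O_cent_le h1
  have h3 := O_norm H h2.1.1
  have hp := hL.v4.pair
  refine (coset_eq_one_iff h3).1 ((red_of_comp hL).eq_one_of_cent charO (coset_mem_quo _ h2.1.1)
    ((odd_of_mem (odd_O _) h1).of_dvd_nat (orderOf_coset_dvd _ w)) ?_ (mem_cent1_comm.1 (mem_cent1.2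
      ((coset_commute_iff h3 (hL.norm hL.v4.ρ_mem)).2 (h.commutator_mem hL h1)))))
  rw [← quo_cent1_of_odd hL.norm (odd_O H) hp.t_mem hp.t_sq]
  refine (quo_mono _ ?_).trans ((quo_sup_self (H := H ⊓ 𝐂[w]) (inf_le_left.trans (O_norm H))).le.trans
    ((quo_mono _ inf_le_right).trans (quo_cent1_le h3)))
  rw [← (hp.cent.sdprod_of_cent inf_le_right).sup_eq]
  exact sup_le ((hL.le_sup (Opi_le _ _) (odd_O _)).trans (sup_le_sup (le_inf (hL.Kc_le.trans hL.normal.le)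
    (le_cent1_iff.2 (Pf.B4.der_norm_le_cent hL.isCyclic_Kc (der_mono (h.O_cent_le.trans le_norm_Kc) hw))))
    inf_le_right)) (le_sup_of_le_left (le_inf h.v4.pair.le (le_cent1_iff.2 (cent_S4 a v ▸ ⟨h2.1.2, h2.2⟩))))

namespace W

variable (h : W A) (h1 : ∀ t ∈ A, t ≠ 1 → A ≤ 𝐂(O 𝐂[t]))
include h h1

theorem exists_comp (ht : t ∈ A) (t1 : t ≠ 1) : ∃ H L a v ρ, Dat A t H a v ρ ∧ Comp H L a v ρ := by
  obtain ⟨H, a, v, ρ, hd⟩ := h.exists_dat ht t1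
  obtain ⟨L, ρ', e⟩ := hd.v4.exists_comp (ih_all _) (Nat.lt_succ_self _)
    (hd.half.O_eq ▸ le_cent1_iff.2 (h1 t ht t1 hd.a_mem))
    fun e => hd.not_norm' (le_norm_sup e (O_norm H))
  exact ⟨H, L, a, v, ρ', { hd with v4 := e.v4N }, e⟩

theorem eq_bot (hY : ∀ t ∈ A, t ≠ 1 → Y ≤ O 𝐂[t]) : Y = ⊥ := by
  obtain ⟨D, hD⟩ : ∃ D, D = ⨅ t ∈ sharp A, O 𝐂[t] := ⟨_, rfl⟩
  have k : ∀ t ∈ A, t ≠ 1 → D ≤ O 𝐂[t] := fun t ht t1 => hD ▸ iInf₂_le t ⟨ht, t1⟩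
  have h2 : 𝐍(A) ≤ 𝐍(D) := fun g hg => mem_norm_of_conj_le (by
    nth_rewrite 2 [hD]
    refine le_iInf₂ fun t ht => conj_le_iff_le_inv_conj.2 ?_
    rw [← O_conj, ← cent1_conj]
    exact k _ (conj_mem_of_norm (inv_mem hg) ht.1) (conj_ne_one.2 ht.2))
  obtain ⟨t, ht, t1⟩ := exists_mem_ne_one (h.ep.ne_bot (by decide))
  obtain ⟨H, L, a, v, ρ, hd, hL⟩ := h.exists_comp h1 ht t1
  have h3 := (cent_le_norm A).trans h2
  refine eq_bot_iff.2 (le_trans (hD ▸ le_iInf₂ fun t ht => hY t ht.1 ht.2) (by_contra fun e =>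
    h.smp.norm_ne_top (mt le_bot_iff.2 e) (fun e => h.cent_ne_top t1 (top_le_iff.1
      (e ▸ (k t ht t1).trans (Opi_le _ _)))) (h.eq_top ht t1 h2 (hd.half.le_sup.trans (sup_le ?_
        ((zpowers_le.2 (h.ep.le_cent ht)).trans h3))))))
  exact hL.isProd.sup_eq.ge.trans (sup_le (le_norm_of_le_cent (hL.cent.trans (cent_anti
    (hd.half.O_eq ▸ k t ht t1)))) (hd.cent_le.trans h3))

theorem ab_O : Ab (O 𝐂(A)) := ab_iff_der.2 (h.eq_bot h1 fun t ht t1 => by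
  obtain ⟨H, L, a, v, ρ, hd, hL⟩ := h.exists_comp h1 ht t1
  exact hd.half.O_eq ▸ hd.der_le hL)

theorem cent_le : 𝐂(A) ≤ 𝐂(O 𝐂(A)) :=
  (Burnside_normal_complement (h.syl.mono h.ep.le_cent le_top) inf_le_left).sup_eq.ge.trans
    (sup_le (h.ab_O h1).le_cent (le_cent_symm (Opi_le _ _)))

theorem O_eq_bot (ht : t ∈ A) (t1 : t ≠ 1) : O 𝐂[t] = ⊥ := by
  obtain ⟨U, hU⟩ : ∃ U, U = O 𝐂(A) := ⟨_, rfl⟩
  have u1 : Ab U := hU ▸ h.ab_O h1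
  have u2 : 𝐂(A) ≤ 𝐂(U) := hU ▸ h.cent_le h1
  have u3 : 𝐍(A) ≤ 𝐍(U) := hU ▸ le_norm_Opi _ (norm_le_norm_cent A)
  have u4 : ∀ t ∈ A, t ≠ 1 → O 𝐂[t] ≤ U := fun t ht t1 => hU ▸ le_O ⟨le_cent_symm (h1 t ht t1),
    (cent_le_cent1 ht).trans (O_norm _)⟩ (odd_O _)
  have u5 : ∀ k ∈ 𝐍(A), ∀ w ∈ U, ∃ c ∈ U, k * w * k⁻¹ = w * c ∧ c = ⁅w⁻¹, k⁆ := fun k hk w hw =>
    ⟨w⁻¹ * (k * w * k⁻¹), mul_mem (inv_mem hw) (conj_mem_of_norm (u3 hk) hw), by group,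
      by simp [commutatorElement_def, mul_assoc]⟩
  have hZ : A ≤ 𝐍(A) ⊓ 𝐂(U) := le_inf (le_norm_self A) (h.ep.le_cent.trans u2)
  obtain ⟨x, hx, x1, e⟩ | e := fix_or_trans h.ep.card inf_le_left (h.syl.mono hZ le_top) h.ep.le_cent
  swap
  · refine h.eq_bot h1 fun s hs s1 => ?_
    obtain ⟨g, hg, rfl⟩ := e t ht t1 s hs s1
    rw [cent1_conj, O_conj, conj_eq_of_mem_cent (cent_anti (u4 t ht t1) hg.2)]
  exfalso
  have h2 : 𝐍(A) ⊓ 𝐂(U) ≤ 𝐂(A) := le_cent_symm fun y hy => by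
    by_cases y1 : y = 1
    · exact y1 ▸ one_mem _
    obtain ⟨g, hg, rfl⟩ := h.trans hx x1 hy y1
    rw [← le_cent1_iff, cent1_conj, ← (normalIn_inf_cent u3).conj_eq hg]
    exact conj_mono g e
  have hM := normalIn_inf_cent (u3.trans (norm_le_norm_Mho 3 1 U))
  obtain ⟨M, hM'⟩ : ∃ M, M = 𝐍(A) ⊓ 𝐂(Mho 3 1 U) := ⟨_, rfl⟩
  rw [← hM'] at hM
  have hV := (hM.le.trans u3).trans (norm_le_norm_Ohm 3 U)
  have hK := normalIn_inf_cent hV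
  have : Fact (Nat.Prime 3) := ⟨Nat.prime_three⟩
  obtain ⟨R, hR⟩ := exists_syl 3 M
  have h3 : M ⊓ 𝐂(Ohm 3 U) ≤ 𝐂(A) ⊔ R := by
    rw [← (Oup_isProd (hR.inf_normal hK)).sup_eq]
    refine sup_le_sup (Oup_le_iff.2 fun k hk ho => zpowers_le.2 (h2 ⟨pow_mem (hM.le hk.1) 3,
      mem_cent_iff_conj.2 fun w hw => ?_⟩) (mem_zpowers_pow_iff.2 ho.symm)) inf_le_left
    obtain ⟨c, hc, e, -⟩ := u5 k (hM.le hk.1) w hw
    have e2 := cube_conj e (ab_iff.1 u1 w hw c hc)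
    rw [mem_cent_iff_conj.1 (hM'.le hk.1).2 _ (pow_mem_Mho_one 3 hw), left_eq_mul] at e2
    rw [conj_cube e (cent_le_cent1 (mem_Ohm hc e2) hk.2), e2, mul_one]
  obtain ⟨y, hy, y1⟩ := exists_mem_ne_one (H := A ⊓ 𝐂(R)) fun e => by
    have := card_modEq_card_inf_centralizer hR.isPGroup (hR.le.trans hM.le)
    rw [e, card_bot, h.ep.card] at this
    exact absurd this (by decide)
  obtain ⟨s, hs, s1, s2⟩ := (h.e8c ht t1).exists_ne y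
  obtain ⟨H, L, a, v, ρ, hd, hL⟩ := h.exists_comp h1 hs s1
  have h4 : ∀ w ∈ U, ρ ∈ 𝐂[⁅w, ρ⁆] := fun w hw =>
    cent_le_cent1 (hd.commutator_mem hL (hU ▸ hw)) (hL.cent hL.v4.ρ_mem)
  have h5 : ρ ∈ M := hM' ▸ ⟨hd.ρ_norm, le_cent1_iff.1 (Mho_one_le_iff.2 fun w hw => by
    obtain ⟨c, hc, e, e'⟩ := u5 ρ hd.ρ_norm w hw
    have e2 := conj_cube e (e' ▸ h4 _ (inv_mem hw))
    rw [mem_cent_iff_conj.1 (u2 hd.pow_mem) w hw, left_eq_mul] at e2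
    rw [mem_cent1_comm, mem_cent1_iff_conj, cube_conj e (ab_iff.1 u1 w hw c hc), e2, mul_one])⟩
  have h6 := Core.mem_sup_relCentralizer_of_quadratic (N := ⊥) (by decide) (fun P _ => h.ab2 P) hV
    (norm_bot.ge.trans' le_top) (ab_iff_der.1 (ab_of_le u1 (Ohm_le 3 U))).le
    (Ohm_abelem 3 u1).2 hR h5 fun w hw => by
      rw [mem_bot, commutatorElement_eq_one_iff_mul_comm, ← mem_cent1, ← commutatorElement_inv, cent1_inv]
      exact h4 w (Ohm_le 3 U hw)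
  have h7 : M ⊓ Core.relCentralizer (Ohm 3 U) ⊥ ≤ 𝐂(A) ⊔ R := fun g hg => h3 ⟨hg.1,
    mem_cent_iff.2 fun w hw => commutatorElement_eq_one_iff_mul_comm.1 (hg.2.2 w hw)⟩
  exact s2 (hd.eq_of_cent hy.1 y1 (sup_le (le_cent1_iff.2 hy.2) (h7.trans
    (sup_le (cent_le_cent1 hy.1) (le_cent1_iff.2 hy.2))) h6)).symm

theorem jr : ∃ (t : G) (H L : Subgroup G) (F : Type) (_ : Field F) (_ : Fintype F), JRs t H L F := by
  obtain ⟨t, ht, t1⟩ := exists_mem_ne_one (h.ep.ne_bot (by decide))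
  obtain ⟨H, a, v, ρ, hd⟩ := h.exists_dat ht t1
  have h2 := hd.half.O_eq.trans (h.O_eq_bot h1 ht t1)
  obtain ⟨L, ρ', e⟩ := (hd.v4.pair.red (ih_all _) (Nat.lt_succ_self _) h2).resolve_left
    fun e => hd.not_norm' (le_norm_sup e (O_norm H))
  have h3 : ¬ Ab L := fun e' => e.v4.not_le_cent (t_mem_S4 a v) e.v4.t_ne
    (e'.le_cent.trans (cent_le_cent1 e.v4.t_mem))
  obtain ⟨F, _, _, k1, k2, k3⟩ := gw4 L (e.good.smp.isSimpleGroup fun e' => h3 (e' ▸ ab_bot)) h3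
    e.v4.not_dvd
  refine ⟨t, H, L, F, _, _, h.simple, t1, h.sq ht, fun b b1 b2 => ?_, fun g => ⟨fun hg =>
    hd.half.or g (mem_cent1.2 hg), fun hg => mem_cent1.1 (hg.elim (hd.half.normal.le ·) fun hg =>
      (mul_mem_cancel_right (mem_cent1_self t)).1 (hd.half.normal.le hg))⟩, hd.half.not_mem,
    e.normal.le, e.normal.norm, Nat.not_even_iff_odd.1 fun e' => hd.v4.pair.syl.not_dvd
      ((even_iff_two_dvd.1 e').trans (relIndex_dvd_of_le_left _ e.v4.pair.le)), e.cent, k1, k2, k3⟩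
  obtain ⟨g, -, e⟩ := h.syl.exists_conj_le le_top (abelem_isPGroup (abelem_zpowers (x := b)
    (by rw [_root_.sq, b2])))
  obtain ⟨g', -, e⟩ := h.trans (e (conj_mem_conj (mem_zpowers b))) (conj_ne_one.2 b1) ht t1
  exact (isConj_iff.2 ⟨g, rfl⟩).trans (isConj_iff.2 ⟨g', e⟩)

end W

end Cfsg.Agent.W3
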