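import Cfsg.Agent.Lib.W3.TypeI
import Cfsg.Agent.Lib.W3.CaseI

/-!
# The rank 3 case of Walter's theorem
-/

set_option autoImplicit false

namespace Cfsg.Agent.W3

open Subgroup Cfsg.Agent.OO Cfsg.Agent.Coprime Cfsg.Agent.Sig Cfsg.Agent.GW Cfsg.Agent.R1
open scoped commutatorElement Pointwise

universe u

variable {G : Type u} [Group G] [Finite G] {A B D E H I J K L M N P Q S T U X Y Z : Subgroup G}
  {n p q : ℕ} {a b c g k r s t v w x y ρ σ : G}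

theorem fs_of_le_Op' [Fact p.Prime] (hU : U ≤ Op p N) (hC : 𝐂(U) ≤ M) (hs : FS M) (ha : Arr M N)
    (h0 : Op p M ≠ ⊥) : FS N ∧ ∀ q : ℕ, q.Prime → Op q N ≠ ⊥ → Op q M ≠ ⊥ := by
  refine ⟨fs_of_arr hs ha (inf_le_right.trans ((cent_anti (hU.trans (Op_le_Fit p N))).trans hC)),
    fun q hq h1 e => h1 ?_⟩
  have := Fact.mk hq
  rw [← Op_inf_eq_bot ha hs e, eq_comm, inf_eq_left]
  exact ((Op_le_cent_Op (fun e' : q = p => h0 (e' ▸ e)) N).trans (cent_anti hU)).trans hC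

/-- `C(t)` is not maximal and its core is not centralized by `A` -/
structure T2 (A : Subgroup G) (t : G) (K : Subgroup G) (r s σ : G) : Prop extends Dat A t K r s σ where
  h2 : ¬ A ≤ 𝐂(O 𝐂[t])
  hn : ¬ IsCoatom 𝐂[t]

namespace T2

variable (h : T2 A t K r s σ)
include h

omit [Finite G] in
theorem conj' (hg : g ∈ 𝐍(A)) :
    T2 A (g * t * g⁻¹) (g •ᶜ K) (g * r * g⁻¹) (g * s * g⁻¹) (g * σ * g⁻¹) :=
  ⟨h.conj hg, by
    rw [cent1_conj, O_conj]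
    nth_rewrite 1 [← conj_eq_of_mem_norm hg]
    exact mt conj_le_cent_conj.1 h.h2, by rw [cent1_conj, isCoatom_conj_iff]; exact h.hn⟩

theorem fs' (hM : IsCoatom M) (hc : 𝐂[t] ≤ M) : FS M := h.fs hM.1 hc h.h2

theorem le_Op [Fact p.Prime] (hM : 𝐂[t] ≤ M) (hX : X ≠ ⊤) (hS : A ≤ X) (hY : Y ≤ Op p M)
    (hYX : Y ≤ X) (ht : t ∈ 𝐍(Y)) (hc : ⁅Y, zpowers t⁆ = Y) : Y ≤ Op p X :=
  (h.e8 hX hS).le_Op h.t_mem h.t1 inf_le_right ((Op_isPGroup p M).to_le inf_le_left)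
    (le_norm_inf ((inf_le_right.trans hM).trans (Op_normal p M).norm) (le_norm_of_le inf_le_left))
    (le_inf hY hYX) ht hc

theorem Op_two (hM : IsCoatom M) (hc : 𝐂[t] ≤ M) : Op 2 M = ⊥ := by
  by_contra h0
  obtain ⟨a, ha, a1⟩ := exists_mem_ne_one h0
  have h1 := le_cent_symm (Op'_le_cent_Op 2 M) ha
  obtain rfl := h.eq_of_cent_O hM.1 hc h.h2 ⟨Op_le_syl (h.e8' hM.1 hc).syl ha, h1⟩ a1
  exact h.hn (le_antisymm ((h.le_sup hM.1 hc).trans (sup_le le_rfl (le_cent1_iff.2 h1))) hc ▸ hM)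

theorem ne_two [Fact p.Prime] (hM : IsCoatom M) (hc : 𝐂[t] ≤ M) (hp : Core.IsCharIn p M) : p ≠ 2 := by
  rintro rfl
  rw [Core.IsCharIn, show pCoreOf 2 M = ⊥ from h.Op_two hM hc] at hp
  exact h.t1 (mem_bot.1 (hp ⟨hc (mem_cent1_self t), by simp⟩))

theorem odd_Op [Fact p.Prime] (hM : IsCoatom M) (hc : 𝐂[t] ≤ M) : Odd ♯(Op p M) := by
  by_cases e : p = 2
  · rw [e, h.Op_two hM hc, card_bot]; exact odd_one
  · exact odd_of_isPGroup e (Op_isPGroup p M)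

theorem opt_of_pi (hM : IsCoatom M) (hc : 𝐂[t] ≤ M) (hπ : ∀ N, IsCoatom N → 𝐂[t] ≤ N → Arr M N →
    ∀ q : ℕ, q.Prime → Op q N ≠ ⊥ → Op q M ≠ ⊥) : GW.Opt t M := by
  refine ⟨hM, hc, fun N hN hc' ha => ?_⟩
  obtain e | ⟨p, hp, h1, -⟩ := h.smp.eq_or_char hM hN (h.fs' hM hc) (h.fs' hN hc') ha (hπ N hN hc' ha)
  · exact e.symm
  have := Fact.mk hp
  refine eq_of_char' h.smp (h.ne_two hM hc h1) h.ab2 hM (inf_le_left (b := N))
    (fun e => h.t1 (mem_bot.1 (e ▸ le_inf hc hc' (mem_cent1_self t))))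
    (arr_mono ha le_rfl) (fun N' h2 h3 => ?_) hN inf_le_right
  have h4 := (le_inf hc hc').trans h3
  exact isCharIn_of_pi (h.fs' h2 h4) (hπ N' h2 h4 (arr_mono ha h3)) h1

theorem exists_opt : ∃ M, GW.Opt t M := by
  by_cases h2 : ∃ (M : Subgroup G) (q : ℕ), IsCoatom M ∧ 𝐂[t] ≤ M ∧ q.Prime ∧ Op q M ≠ ⊥ ∧
      Op q M ⊓ 𝐂[t] = ⊥
  · obtain ⟨M, q, hM, hc, hq, h3, h4⟩ := h2
    have := Fact.mk hq
    refine ⟨M, h.opt_of_pi hM hc fun N hN hc' ha r hr h5 h6 => h5 ?_⟩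
    have := Fact.mk hr
    have h7 := (Op_normal q M).Zc.norm (hc (mem_cent1_self t))
    have h8 := h.le_Op hc hN.1 ((h.le_cent h.t_mem).trans hc') (Zc_le _) (ha.Zc_Op_le q) h7
      (commutator_eq_of_inf_eq_bot h.half.sq h7 (odd_of_le (h.odd_Op hM hc) (Zc_le _))
        (eq_bot_iff.2 (h4 ▸ inf_le_inf_right _ (Zc_le _))))
    rw [← Op_inf_eq_bot ha (h.fs' hM hc) h6, eq_comm, inf_eq_left]
    exact ((Op_le_cent_Op (fun e : r = q => h3 (e ▸ h6)) N).trans (cent_anti h8)).trans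
      (h.smp.cent_Zc_le hM h3)
  · obtain ⟨M, hM, hc⟩ := (eq_top_or_exists_le_coatom _).resolve_left (h.cent_ne_top h.t1)
    refine ⟨M, h.opt_of_pi hM hc fun N hN hc' ha r hr h5 h6 => h2 ⟨N, r, hN, hc', hr, h5, ?_⟩⟩
    have := Fact.mk hr
    exact eq_bot_iff.2 (Op_inf_eq_bot ha (h.fs' hM hc) h6 ▸ inf_le_inf_left _ hc)

theorem exists_minY (hM : IsCoatom M) (hc : 𝐂[t] ≤ M) : ∃ p Y, p.Prime ∧ GW.MinY t M p Y := by
  obtain ⟨p, hp, h0⟩ : ∃ p : ℕ, p.Prime ∧ ⁅Op p M, zpowers t⁆ ≠ ⊥ := by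
    by_contra! h2
    have h3 := (le_inf (zpowers_le.2 (hc (mem_cent1_self t))) (le_cent_Fit_of_forall fun p hp =>
      commutator_eq_bot_iff'.1 (h2 p hp.out))).trans (h.fs' hM hc)
    exact h.t1 (mem_bot.1 (h.Op_two hM hc ▸ le_Op_of_le_Fit (abelem_isPGroup (abelem_zpowers
      (by rw [_root_.sq, h.half.sq]))) h3 (mem_zpowers t)))
  have := Fact.mk hp
  have hR : 𝐂[t] ≤ 𝐍(zpowers t) := le_norm_of_le_cent (cent_zpowers t).ge
  obtain ⟨Y, k1, ⟨k2, k4⟩, k5⟩ := Core.exists_minimal_le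
    (P := fun Y => 𝐂[t] ≤ 𝐍(Y) ∧ ⁅Y, zpowers t⁆ ≠ ⊥) ⟨hc.trans (Op_normal p M).norm, h0⟩
  have hYp : IsPGroup p Y := (Op_isPGroup p M).to_le k1
  have ho := odd_of_le (h.odd_Op hM hc) k1
  have ht := zpowers_le.2 (k2 (mem_cent1_self t))
  have k7 : ⁅Y, zpowers t⁆ = Y := k5 _ ⟨le_norm_commutator k2 hR, by
    rwa [coprime_commGid ht (coprime_zp ho h.half.sq) (.inl (sol_of_odd ho))]⟩ (commutator_le_left' ht)
  have k8 : Y ≠ ⊥ := fun e => k4 (by rw [e, commutator_bot_left])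
  refine ⟨p, Y, hp, k1, k2, k8, k7, le_of_forall_isPGroup fun q hq Q hQ hQq => ?_⟩
  refine (le_inf (le_Op_of_le_Fit hQq (hQ.trans inf_le_left)) (hQ.trans inf_le_right)).trans ?_
  by_cases e : q = p
  · subst e
    have h1 := commutator_lt_of_isPGroup ((Op_isPGroup q M).to_le inf_le_left) hYp
      (inf_le_right.trans k2) k8
    rw [← commutator_eq_bot_iff', ← k7, commutator_comm Y]
    refine three_subgroup (by_contra fun e => h1.ne (k5 _ ⟨le_norm_commutator k2 (le_norm_inf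
      (hc.trans (Op_normal q M).norm) (le_norm_self _)), e⟩ h1.le)) ?_
    rw [OO.commutator_eq_bot_iff (B := zpowers t).2 (cent_zpowers t ▸ inf_le_right), commutator_bot_left]
  · exact inf_le_left.trans ((Op_le_cent_Op e M).trans (cent_anti k1))

variable [Fact p.Prime] (hM : GW.Opt t M) (hY : GW.MinY t M p Y)
include hM hY

theorem norm_Y_le : 𝐍(Y) ≤ M := by
  obtain ⟨N, hN, h1⟩ := h.smp.exists_coatom hY.ne_bot
    fun e => hM.coatom.1 (top_le_iff.1 (e ▸ hY.le.trans (Op_le p M)))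
  rwa [hM.eq N hN (hY.norm.trans h1) (arr_of_le (hY.le.trans (Op_le_Fit p M))
    ((le_norm_self Y).trans h1) (inf_le_right.trans ((cent_le_norm Y).trans h1)))] at h1

theorem eq_of_arr (hN : IsCoatom N) (hS : A ≤ N) (hYN : Y ≤ N) (ha : Arr M N) : N = M := by
  have hs := h.fs' hM.coatom hM.le
  have k := fun N (hN : IsCoatom N) hS hYN ha => fs_of_le_Op' (h.le_Op hM.le hN.1 hS hY.le hYN
    (hY.norm (mem_cent1_self t)) hY.comm) ((cent_le_norm Y).trans (h.norm_Y_le hM hY)) hs ha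
    fun e => hY.ne_bot (eq_bot_iff.2 (e ▸ hY.le))
  obtain e | ⟨q, hq, h1, -⟩ := h.smp.eq_or_char hM.coatom hN hs (k N hN hS hYN ha).1 ha
    (k N hN hS hYN ha).2
  · exact e.symm
  have := Fact.mk hq
  have h2 := le_inf (hY.le.trans (Op_le p M)) hYN
  refine eq_of_char' h.smp (h.ne_two hM.coatom hM.le h1) h.ab2 hM.coatom (inf_le_left (b := N))
    (fun e => hY.ne_bot (eq_bot_iff.2 (e ▸ h2))) (arr_mono ha le_rfl) (fun N' h3 h4 => ?_) hN
    inf_le_right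
  have h5 := k N' h3 ((le_inf ((h.le_cent h.t_mem).trans hM.le) hS).trans h4) (h2.trans h4)
    (arr_mono ha h4)
  exact isCharIn_of_pi h5.1 h5.2 h1

theorem eq_of_norm (hN : IsCoatom N) (h1 : 𝐍(U) ≤ N) (hA : A ≤ 𝐍(U)) (hU : U ≤ Fit M ⊓ 𝐂(Y)) :
    N = M :=
  h.eq_of_arr hM hY hN (hA.trans h1) ((le_norm_of_le_cent (le_cent_symm (hU.trans inf_le_right))).trans
    h1) (arr_of_le (hU.trans inf_le_left) ((le_norm_self U).trans h1)
      (inf_le_right.trans ((cent_le_norm U).trans h1)))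

theorem inf_eq_bot (hb : b ∈ A) (b1 : b ≠ 1) (b2 : b ≠ t) : Zc Y ⊓ ⁅Y ⊓ 𝐂[b], zpowers t⁆ = ⊥ := by
  by_contra h0
  obtain ⟨g, hg, rfl⟩ := h.trans h.t_mem h.t1 hb b1
  have hM' := hM.conj g
  have h1 := (h.le_cent h.t_mem).trans hY.norm
  have h2 := le_norm_inf h1 (le_norm_of_le (h.le_cent hb))
  have h3 := zpowers_le.2 (h2 h.t_mem)
  have h4 := commutator_le_left' h3
  have ho := odd_of_le (h.odd_Op hM.coatom hM.le) (inf_le_left.trans hY.le : Y ⊓ 𝐂[g * t * g⁻¹] ≤ _)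
  have h5 := le_norm_commutator h2 (le_norm_of_ab h.ep.ab (zpowers_le.2 h.t_mem))
  have h6 := (h.le_Op hM.le hM'.coatom.1 ((h.le_cent hb).trans hM'.le) (h4.trans
    (inf_le_left.trans hY.le)) (h4.trans (inf_le_right.trans hM'.le)) (h5 h.t_mem)
    (coprime_commGid h3 (coprime_zp ho h.half.sq) (.inl (sol_of_odd ho)))).trans (Op_le_Fit p _)
  have h7 := le_norm_inf (le_norm_Zc h1) h5
  obtain ⟨N, hN, h8⟩ := h.smp.exists_coatom h0 fun e => hM'.coatom.1 (top_le_iff.1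
    (e ▸ inf_le_right.trans (h6.trans (Fit_le _))))
  have e1 := h.eq_of_norm hM hY hN h8 h7 (inf_le_left.trans (inf_le_inf_right _
    (hY.le.trans (Op_le_Fit p M))))
  have e2 := (h.conj' hg).eq_of_norm hM' (hY.conj g) hN h8 h7 (inf_le_right.trans (le_inf h6
    ((le_inf h6 (h4.trans inf_le_right)).trans (hY.conj g).cent)))
  exact b2 (h.eq_of_cent hb b1 ((h.conj hg).inf_norm_le hM'.coatom.1 hM'.le
    ⟨e2 ▸ e1 ▸ hM.le h.ρt, h.ρ_norm⟩))

end T2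

theorem T2.false (h : T2 A t K r s σ) : False := by
  obtain ⟨M, hM⟩ := h.exists_opt
  obtain ⟨p, Y, hp, hY⟩ := h.exists_minY hM.coatom hM.le
  have := Fact.mk hp
  have ho := odd_of_le (h.odd_Op hM.coatom hM.le) hY.le
  have h1 := (h.le_cent h.t_mem).trans hY.norm
  have e8 := h.e8c h.t_mem h.t1
  have h2 : Y ⊓ 𝐂[t] ≤ Zc Y := le_inf inf_le_left
    ((inf_le_inf_right _ (hY.le.trans (Op_le_Fit p M))).trans hY.cent)
  have h3 : der Y ≤ Zc Y := by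
    have h3 := le_norm_Zc h1
    have h4 := (Zc_normal Y).norm
    rw [← ab_quo_iff h4]
    refine ab_of_inf_eq_bot (coset_sq (h3 h.t_mem) h.half.sq) (coset_mem_norm _ (h1 h.t_mem)) ?_
    rw [← quo_inf_cent1 (Zc_le Y) (h3 h.t_mem) (Nat.card_zpowers t ▸ coprime_zp
      (odd_of_le ho (Zc_le Y)) h.half.sq), quo_eq_bot h2]
  have k1 : ∀ D ≤ A, Y ⊓ 𝐂(D) ≤ ⁅Y ⊓ 𝐂(D), zpowers t⁆ ⊔ Zc Y := fun D hD => by
    have h4 := odd_of_le ho (inf_le_left : Y ⊓ 𝐂(D) ≤ Y)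
    refine (coprime_cent_prod (zpowers_le.2 (le_norm_inf h1 (le_norm_of_le (h.ep.le_cent.trans
      (cent_anti hD))) h.t_mem)) (coprime_zp h4 h.half.sq) (.inl (sol_of_odd h4))).ge.trans
      (sup_le_sup_left ?_ _)
    rw [cent_zpowers]
    exact (inf_le_inf_right _ inf_le_left).trans h2
  have k2 : ∀ b ∈ A, b ≠ 1 → b ≠ t → Ab ⁅Y ⊓ 𝐂[b], zpowers t⁆ := fun b hb b1 b2 => ab_iff_der.2
    (eq_bot_iff.2 (h.inf_eq_bot hM hY hb b1 b2 ▸ le_inf ((der_mono ((commutator_mono inf_le_left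
      le_rfl).trans hY.comm.le)).trans h3) (der_le _)))
  have k3 : ∀ D ≤ A, IsCyclic (A ⁒ D : Subgroup _) → 4 ≤ ♯D := fun D hD hc => by
    have h4 := card_mul_card_quo (normalIn_of_ab h.ep.ab hD)
    obtain ⟨x, hx⟩ := exists_zpowers_eq hc
    have h5 := Nat.le_of_dvd two_pos (orderOf_dvd_of_pow_eq_one ((abelem_quo h.ep.abelem D).2 x
      (hx ▸ mem_zpowers x)))
    rw [h.ep.card, ← hx, Nat.card_zpowers] at h4
    nlinarith
  have k4 : ∀ D ≤ A, t ∈ D → Y ⊓ 𝐂(D) ≤ Zc Y := fun D _ e =>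
    (inf_le_inf_left _ (cent_le_cent1 e)).trans h2
  have k5 := fun K => coprime_abelian_gen_cent (K := K) h.ep.ab h1 (e8.coprime ho le_rfl)
  have h4 : Ab Y := ab_iff_le_cent.2 (k5 _ fun D hD hc => le_cent_symm (k5 _ fun E hE hc' => by
    by_cases e : t ∈ D
    · exact le_cent_symm ((k4 D hD e).trans (inf_le_right.trans (cent_anti inf_le_left)))
    by_cases e' : t ∈ E
    · exact (k4 E hE e').trans (inf_le_right.trans (cent_anti inf_le_left))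
    obtain ⟨b, hb, b1⟩ := exists_mem_ne_one (H := D ⊓ E) fun e0 => by
      have h5 := card_sup_of_inf_eq_bot (.inl (hD.trans (le_norm_of_ab h.ep.ab hE))) e0
      have h6 := card_lt (lt_of_le_of_ne (sup_le hD hE) fun e1 => by
        rw [e1, h.ep.card] at h5
        nlinarith [k3 D hD hc, k3 E hE hc'])
      rw [h.ep.card] at h6
      nlinarith [k3 D hD hc, k3 E hE hc']
    have h5 := (k2 b (hD hb.1) b1 fun e1 => e (e1 ▸ hb.1)).le_cent
    have h6 := fun D (hb : b ∈ D) => commutator_mono (inf_le_inf_left Y (cent_le_cent1 hb))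
      (le_refl (zpowers t))
    have h7 := fun D (hb : b ∈ D) => (h6 D hb).trans ((commutator_mono inf_le_left le_rfl).trans
      hY.comm.le)
    exact le_cent_mono (sup_le (le_cent_sup (le_cent_mono h5 (h6 E hb.2) (h6 D hb.1))
      ((h7 E hb.2).trans (le_cent_Zc Y))) (inf_le_right.trans (cent_anti (sup_le (h7 D hb.1) (Zc_le Y)))))
      (k1 E hE) (k1 D hD)))
  refine hY.ne_bot (hY.comm.symm.trans (OO.commutator_eq_bot_iff.2 (coprime_abelian_gen_cent1 h.ep.ab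
    (h.ep.not_isCyclic (by decide)) h1 (e8.coprime ho le_rfl) fun b hb b1 => ?_)))
  by_cases b2 : b = t
  · rw [cent_zpowers, b2]; exact inf_le_right
  have h5 := h.inf_eq_bot hM hY hb b1 b2
  rwa [Zc_eq_self h4, inf_eq_right.2 ((commutator_mono inf_le_left le_rfl).trans hY.comm.le),
    OO.commutator_eq_bot_iff] at h5

/-- the rank 3 case of Walter's theorem -/
theorem w3 : W3.{u} := fun G _ _ A h1 h2 h3 h4 h5 h6 h7 h8 => by
  have h : W A := ⟨h1, h2, h3, h4, ⟨le_top, h5, h6⟩, h7, h8⟩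
  refine h.jr fun b hb b1 => by_contra fun e => ?_
  obtain ⟨H, a, v, ρ, hd⟩ := h.exists_dat hb b1
  obtain ⟨K, r, s, σ, hd'⟩ := h.exists_dat hd.a_mem hd.v4.t_ne
  have h9 : ¬ A ≤ 𝐂(O 𝐂[a]) := fun e' => e (by
    obtain ⟨g, hg, rfl⟩ := h.trans hd.a_mem hd.v4.t_ne hb b1
    rw [cent1_conj, O_conj, ← conj_eq_of_mem_norm hg]
    exact conj_le_cent_conj.2 e')
  exact T2.false ⟨hd', h9, hd.not_coatom hd' h9⟩

end Cfsg.Agent.W3
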