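import Cfsg.Agent.Lib.W3.KF

/-!
# The rank 3 case of Walter's theorem: centralizers of involutions
-/

set_option autoImplicit false

namespace Cfsg.Agent.W3

open Subgroup Cfsg.Agent.OO Cfsg.Agent.Coprime Cfsg.Agent.Sig Cfsg.Agent.GW Cfsg.Agent.R1
open scoped commutatorElement Pointwise

universe u

variable {G : Type u} [Group G] [Finite G] {A B D E H I J K L M N P Q S T X Y Z : Subgroup G}
  {n p q : ℕ} {a b g s t v x y ρ : G}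

omit [Finite G] in
theorem O_conj (g : G) (X : Subgroup G) : O (g •ᶜ X) = g •ᶜ O X := Opi_conj _ g X

theorem le_O_of_norm (hS : Syl 2 S X) (ha : Ab S) (hn : X ≤ 𝐍(S ⊔ O X)) (hY : Y ≤ X) (ho : Odd ♯Y)
    (hSY : S ≤ 𝐍(Y)) : Y ≤ O X := by
  have h1 := hS.quo (O_norm X)
  have h2 : X ⁒ O X ≤ 𝐍(S ⁒ O X) := quo_sup_self (hS.le.trans (O_norm X)) ▸ quo_le_norm _ hn
  have h3 := normalIn_inf_cent h2
  have h4 := (Burnside_normal_complement (h1.mono (le_inf h1.le (ab_quo ha _).le_cent) h3.le)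
    (inf_le_left.trans inf_le_right)).right_eq_iff.2
      (eq_bot_iff.2 ((Opi_le_of_normal _ h3).trans (O_quo X).le))
  have h5 := coprime_of_isPGroup h1.isPGroup (odd_iff.1 (odd_quo ho (O X)))
  rw [← quo_eq_bot_iff (hY.trans (O_norm X)), eq_bot_iff, ← inf_eq_bot_of_coprime_card h5]
  exact le_inf ((le_inf (quo_mono _ hY) (le_cent_of_coprime ((quo_mono _ hY).trans h2)
    (quo_le_norm _ hSY) h5.symm)).trans h4.ge) le_rfl

theorem E8.fs (h : E8 A X) (hx : ∀ b ∈ A ⊓ 𝐂(O X), b ≠ 1 → b = x) : FS X := by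
  have h1 := h.syl.inf_normal (Opi_normal _ X : O X ⊴ X).cent
  have h2 : IsCyclic ↥(A ⊓ (X ⊓ 𝐂(O X))) := isCyclic_of_le' (B := zpowers x) inferInstance
    fun b hb => (em (b = 1)).elim (· ▸ one_mem _) fun e => hx b ⟨hb.1, hb.2.2⟩ e ▸ mem_zpowers b
  exact fs_of_sol_cent ((cyclic_pdiv_normal_complement h1 h2 fun q hq _ => hq.two_le).sol
    (sol_of_odd (odd_O _)) h1.sol)

/-- the hypotheses of the rank 3 case -/
structure W (A : Subgroup G) : Prop where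
  simple : IsSimpleGroup G
  nab : ¬ IsMulCommutative G
  ab2 : Ab2 G
  hyp : KHyp.{u} (Nat.card G)
  ep : IsEp 2 3 A ⊤
  max : ∀ B : Subgroup G, IsElementaryAbelian 2 B → ♯B ≤ 8
  nse : ∀ M : Subgroup G, ¬ ZL.SE M

namespace W

variable (h : W A)
include h

omit [Finite G] in
theorem smp : Smp (⊤ : Subgroup G) := @smp_top _ _ h.simple

omit [Finite G] in
theorem perfect : der (⊤ : Subgroup G) = ⊤ :=
  h.smp.perfect fun e => h.nab ⟨⟨fun a b => ab_iff.1 e a trivial b trivial⟩⟩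

theorem not_sol : ¬ Sol (⊤ : Subgroup G) := fun e =>
  (der_lt e fun e' => h.ep.ne_bot (by decide) (eq_bot_iff.2 (e' ▸ le_top))).ne h.perfect

theorem kx (hX : X ≠ ⊤) : KX X := ⟨fun P _ => h.ab2 P, _, card_top (G := G) ▸ card_lt hX.lt_top, h.hyp⟩

omit [Finite G] in
theorem sq (ha : a ∈ A) : a * a = 1 := by simpa [_root_.sq] using h.ep.abelem.2 a ha

omit [Finite G] in
theorem le_cent (ha : a ∈ A) : A ≤ 𝐂[a] := h.ep.le_cent.trans (cent_le_cent1 ha)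

omit [Finite G] in
theorem cent_ne_top (x1 : x ≠ 1) : 𝐂[x] ≠ ⊤ := fun e => h.nab ⟨⟨fun a b => ab_iff.1 (Zc_eq_self_iff.1
  ((h.smp _ (Zc_normal ⊤)).resolve_left fun e' => x1 (mem_bot.1 (e' ▸ ⟨trivial,
    le_cent1_iff.1 e.ge⟩)))) a trivial b trivial⟩⟩

section

variable (hS : Syl 2 S ⊤) (hA : A ≤ S)
include hS hA

theorem mem_of_sq (hv : v ∈ S) (h2 : v * v = 1) : v ∈ A :=
  (eq_of_le_of_card_le le_sup_left ((h.max _ (abelem_sup h.ep.abelem (abelem_zpowers (by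
    rw [_root_.sq, h2])) (le_cent_mono (Ab.le_cent (h.ab2 S hS.isPGroup)) hA (zpowers_le.2 hv)))).trans
      h.ep.card.ge)).ge (mem_sup_right (mem_zpowers v))

theorem norm_le : 𝐍(S) ≤ 𝐍(A) := fun g hg => mem_norm_of_conj_mem fun _ hx =>
  h.mem_of_sq hS hA (conj_mem_of_norm hg (hA hx)) (conj_sq (h.sq hx) g)

theorem trans' (ha : a ∈ A) (a1 : a ≠ 1) (hb : b ∈ A) (b1 : b ≠ 1) : ∃ g ∈ 𝐍(S), g * a * g⁻¹ = b := by
  have h1 : Ab S := h.ab2 S hS.isPGroup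
  refine (fix_or_trans h.ep.card (h.norm_le hS hA) (hS.mono (le_norm_self S) le_top)
    (h1.le_cent.trans (cent_anti hA))).resolve_left (fun ⟨x, hx, x1, e⟩ => ?_) a ha a1 b hb b1
  exact not_mem_der hS h1 (hA hx) x1 (inf_le_right.trans e) (h.perfect.ge trivial)

theorem eq_top' (ha : a ∈ A) (a1 : a ≠ 1) (h1 : 𝐍(S) ≤ M) (h2 : 𝐂[a] ≤ M) : M = ⊤ :=
  by_contra fun e => h.nse M (se_of_le hS e ((le_norm_self S).trans h1) a1 (h.sq ha) h2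
    fun b hb b1 b2 => (h.trans' hS hA ha a1 (h.mem_of_sq hS hA hb b2) b1).imp fun _ e => ⟨h1 e.1, e.2⟩)

theorem exists_not_norm : ∃ a ∈ A, a ≠ 1 ∧ ¬ 𝐂[a] ≤ 𝐍(S ⊔ O 𝐂[a]) := by
  by_contra! h0
  have h1 : Ab S := h.ab2 S hS.isPGroup
  have h2 : ∀ a ∈ A, S ≤ 𝐂[a] := fun a ha => h1.le_cent.trans (cent_le_cent1 (hA ha))
  obtain ⟨E, hE, h3⟩ := complete_two (A := A) (θ := fun a => O 𝐂[a]) ⟨Nat.prime_two, h.ep.abelem,
    h.ep.card.ge, fun _ _ _ => Opi_le _ _, fun _ _ _ => not_dvd_Op' _,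
    fun a ha _ => (h.le_cent ha).trans (O_norm _), fun _ _ _ => sol_of_odd (odd_O _),
    fun a ha _ b hb b1 => le_O_of_norm (hS.mono (h2 b hb) le_top) h1 (h0 b hb b1) inf_le_right
      (odd_of_le (odd_O _) inf_le_left) (le_norm_inf ((h2 a ha).trans (O_norm _))
        (le_norm_of_le (h2 b hb)))⟩
  have h4 : 𝐍(S) ≤ 𝐍(E) := fun g hg => mem_norm_of_conj_le (conj_le_iff_le_inv_conj.2
    (coprime_abelian_gen_cent1 h.ep.ab (h.ep.not_isCyclic (by decide)) hE.norm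
      (coprime_of_isPGroup h.ep.isPGroup ((piGrp_compl_singleton Nat.prime_two).2 hE.cop)).symm
      fun a ha a1 => (hE.le a ha a1).trans (conj_le_iff_le_inv_conj.1 (by
        rw [← Opi_conj, ← cent1_conj]
        exact h3 _ (conj_mem_of_norm (h.norm_le hS hA hg) ha) (conj_ne_one.2 a1)))))
  obtain ⟨a, ha, a1⟩ := exists_mem_ne_one (h.ep.ne_bot (by decide))
  refine h.smp.norm_ne_top (Q := S ⊔ E) (fun e => a1 (mem_bot.1 (e ▸ mem_sup_left (hA ha))))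
    (fun e => h.not_sol (e ▸ sol_sup ((le_norm_self S).trans h4) hS.sol hE.sol))
    (h.eq_top' hS hA ha a1 (le_norm_sup le_rfl h4) ?_)
  have h5 : S ⊔ O 𝐂[a] ≤ 𝐂[a] := sup_le (h2 a ha) (Opi_le _ _)
  rw [← ((hS.mono le_sup_left le_top).frattini ⟨h5, h0 a ha a1⟩).sup_eq]
  exact sup_le (le_norm_of_le (sup_le_sup_left (h3 a ha a1) _))
    (inf_le_right.trans (le_norm_sup le_rfl h4))

end

theorem syl : Syl 2 A ⊤ := by
  obtain ⟨S, hS, hA⟩ := exists_syl_ge le_top h.ep.isPGroup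
  by_cases e : S ≤ A
  · rwa [← le_antisymm e hA]
  obtain ⟨s, hs, s1⟩ := SetLike.not_le_iff_exists.1 e
  obtain ⟨_, ⟨k, rfl⟩, e⟩ := cauchy Nat.prime_two (dvd_card_of_isPGroup (hS.isPGroup.to_le
    (zpowers_le.2 (mul_mem hs hs))) fun e => s1 (h.mem_of_sq hS hA hs (zpowers_eq_bot.1 e)))
  have z1 : (s * s) ^ k ≠ 1 := fun e' => by simp [e'] at e
  have z2 : (s * s) ^ k * (s * s) ^ k = 1 := by rw [← _root_.sq, ← e, pow_orderOf_eq_one]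
  obtain ⟨a, ha, a1, h1⟩ := h.exists_not_norm hS hA
  have h2 := hS.mono ((Ab.le_cent (h.ab2 S hS.isPGroup)).trans (cent_le_cent1 (hA ha))) le_top
  have h3 := h2.le.trans (O_norm _)
  refine absurd (le_norm_sup_of_quo (O_norm _) h3 (((h.kx (h.cent_ne_top a1)).quo _).le_norm
    (h2.quo (O_norm _)) (O_quo _) fun v hv v1 v2 => ?_)) h1
  obtain ⟨w, hw, rfl⟩ := (mem_quo_of_le h3).1 hv
  rw [← coset_mul (h3 hw) (h3 hw), coset_eq_one_iff (h3 (mul_mem hw hw))] at v2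
  have w2 : w * w = 1 := mem_bot.1 (inf_eq_bot_of_coprime_card (coprime_of_isPGroup hS.isPGroup
    (Op'_piGrp 2 _)) ▸ (⟨mul_mem hw hw, v2⟩ : w * w ∈ S ⊓ O 𝐂[a]))
  obtain ⟨g, hg, e⟩ := h.trans' hS hA (h.mem_of_sq hS hA (zpow_mem (mul_mem hs hs) k) z2) z1
    (h.mem_of_sq hS hA hw w2) fun e => v1 (e ▸ coset_one _)
  have h4 := conj_mem_of_norm hg (zpow_mem hs k)
  exact ⟨_, coset_mem_quo _ h4, by
    rw [← coset_mul (h3 h4) (h3 h4), conj_mul, ← (Commute.refl s).mul_zpow, e]⟩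

theorem e8 (hX : X ≠ ⊤) (hA : A ≤ X) : E8 A X := ⟨h.kx hX, h.ep.of_le hA, h.syl.mono hA le_top⟩

theorem e8c (ha : a ∈ A) (a1 : a ≠ 1) : E8 A 𝐂[a] := h.e8 (h.cent_ne_top a1) (h.le_cent ha)

theorem trans (ha : a ∈ A) (a1 : a ≠ 1) (hb : b ∈ A) (b1 : b ≠ 1) : ∃ g ∈ 𝐍(A), g * a * g⁻¹ = b :=
  h.trans' h.syl le_rfl ha a1 hb b1

theorem eq_top (ha : a ∈ A) (a1 : a ≠ 1) (h1 : 𝐍(A) ≤ M) (h2 : 𝐂[a] ≤ M) : M = ⊤ :=
  h.eq_top' h.syl le_rfl ha a1 h1 h2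

theorem not_norm (ht : t ∈ A) (t1 : t ≠ 1) : ¬ 𝐂[t] ≤ 𝐍(A ⊔ O 𝐂[t]) := fun e => by
  obtain ⟨a, ha, a1, h1⟩ := h.exists_not_norm h.syl le_rfl
  obtain ⟨g, hg, rfl⟩ := h.trans ha a1 ht t1
  rw [cent1_conj, O_conj, ← conj_eq_of_mem_norm hg, ← conj_sup, conj_le_norm_conj] at e
  exact h1 e

end W

/-- the structure of `C(t)` -/
structure Dat (A : Subgroup G) (t : G) (H : Subgroup G) (a v ρ : G) : Prop extends W A where
  t_mem : t ∈ A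
  half : Half 𝐂[t] H t
  v4 : V4 H a v ρ
  le : S4 a v ≤ A

theorem W.exists_dat (h : W A) (ht : t ∈ A) (t1 : t ≠ 1) : ∃ H a v ρ, Dat A t H a v ρ := by
  have h1 := h.e8c ht t1
  obtain ⟨H, hH⟩ := exists_half h1.syl h.ep.abelem ht t1 le_rfl
  obtain ⟨a, ha, a1⟩ : ∃ a ∈ A ⊓ H, a ≠ 1 := by
    obtain ⟨b, hb, b1, b2⟩ := h1.exists_ne t
    exact (hH.or b (h1.le hb)).elim (fun e => ⟨b, ⟨hb, e⟩, b1⟩) fun e => ⟨_, ⟨mul_mem hb ht, e⟩,
      fun e' => b2 ((eq_inv_of_mul_eq_one_left e').trans (inv_eq hH.sq))⟩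
  obtain ⟨v, hv, e⟩ := hH.exists_pair h1.syl h1.ep ha a1
  have h2 := S4_le.2 ⟨ha.1, hv⟩
  obtain ⟨ρ, e⟩ := e.sdprod_or.resolve_left fun e => h.not_norm ht t1 (le_norm_of_le (hH.le_sup.trans
    (sup_le (e.sup_eq.ge.trans (sup_le (hH.O_eq.le.trans le_sup_right) (h2.trans le_sup_left)))
      ((zpowers_le.2 ht).trans le_sup_left))))
  exact ⟨H, a, v, ρ, h, ht, hH, e, h2⟩

namespace Dat

variable (h : Dat A t H a v ρ)
include h

omit [Finite G] in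
theorem t1 : t ≠ 1 := fun e => h.half.not_mem (e ▸ one_mem H)

omit [Finite G] in
theorem a_mem : a ∈ A := h.le (t_mem_S4 a v)

omit [Finite G] in
theorem v_mem : v ∈ A := h.le (s_mem_S4 a v)

omit [Finite G] in
theorem ρt : ρ ∈ 𝐂[t] := h.half.normal.le h.v4.ρ_mem

omit [Finite G] in
theorem conj (hg : g ∈ 𝐍(A)) :
    Dat A (g * t * g⁻¹) (g •ᶜ H) (g * a * g⁻¹) (g * v * g⁻¹) (g * ρ * g⁻¹) :=
  ⟨h.toW, conj_mem_of_norm hg h.t_mem, cent1_conj g t ▸ h.half.conj g, h.v4.conj g,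
    conj_S4 g a v ▸ conj_le_of_mem_norm hg h.le⟩

theorem mem_S4 (hx : x ∈ A) (hH : x ∈ H) : x ∈ S4 a v :=
  h.v4.pair.syl.le_of_norm inf_le_right (h.ep.isPGroup.to_le inf_le_left)
    (.inl (h.le.trans (le_norm_of_ab h.ep.ab inf_le_left))) ⟨hx, hH⟩

theorem mem_or (hx : x ∈ A) : x ∈ S4 a v ∨ x * t ∈ S4 a v :=
  (h.half.or x (h.le_cent h.t_mem hx)).imp (h.mem_S4 hx) (h.mem_S4 (mul_mem hx h.t_mem))

theorem sup_eq : S4 a v ⊔ zpowers t = A := le_antisymm (sup_le h.le (zpowers_le.2 h.t_mem))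
  fun _ hx => (h.mem_or hx).elim (mem_sup_left ·) fun e =>
    (mul_mem_cancel_right (mem_sup_right (mem_zpowers t))).1 (mem_sup_left e)

theorem ρ_norm : ρ ∈ 𝐍(A) :=
  h.sup_eq ▸ mem_norm_sup h.v4.mem_norm (cent_le_norm _ (cent_zpowers t ▸ h.ρt))

theorem eq_of_cent (hx : x ∈ A) (x1 : x ≠ 1) (hc : ρ ∈ 𝐂[x]) : x = t := by
  have k : ∀ x ∈ S4 a v, ρ ∈ 𝐂[x] → x = 1 := fun x hx hc => by_contra fun x1 => by
    obtain ⟨g, hg, e⟩ := h.v4.exists_conj_of_mem hx x1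
    obtain rfl : a = x := by
      simpa using e.trans (mem_cent1_iff_conj.1 (zpowers_le.2 hc hg)).symm
    exact h.v4.pair.ne ((mem_cent1_iff_conj.1 hc).symm.trans h.v4.ρt)
  exact (eq_inv_of_mul_eq_one_left (k _ ((h.mem_or hx).resolve_left fun e => x1 (k x e hc))
    (mem_cent1_comm.1 (mul_mem (mem_cent1_comm.1 hc) (mem_cent1_comm.1 h.ρt))))).trans
      (inv_eq h.half.sq)

theorem le_of_norm (hn : ρ ∈ 𝐍(D)) (hb : b ∈ A ⊓ D) (b1 : b ≠ 1) (b2 : b ≠ t) : S4 a v ≤ D := by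
  have h1 : ρ * b * ρ⁻¹ * b⁻¹ ∈ S4 a v := h.mem_S4 (mul_mem (conj_mem_of_norm h.ρ_norm hb.1)
    (inv_mem hb.1)) (commutator_le_left' ((zpowers_le.2 (h.le_cent h.t_mem hb.1)).trans
      h.half.normal.norm) (commutator_mem_commutator h.v4.ρ_mem (mem_zpowers b)))
  obtain ⟨g, hg, e⟩ := h.v4.exists_conj_of_mem h1 fun e =>
    b2 (h.eq_of_cent hb.1 b1 (mem_cent1_iff_conj.2 (mul_inv_eq_one.1 e)))
  have h2 : a ∈ D := (mem_norm_iff.1 (zpowers_le.2 hn hg) a).2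
    (e ▸ mul_mem (conj_mem_of_norm hn hb.2) (inv_mem hb.2))
  exact S4_le.2 ⟨h2, h.v4.ρt ▸ conj_mem_of_norm hn h2⟩

theorem not_norm' : ¬ H ≤ 𝐍(S4 a v ⊔ O H) := fun e => h.not_norm h.t_mem h.t1 (by
  rw [← h.half.O_eq, ← h.sup_eq, sup_right_comm]
  exact h.half.le_sup.trans (sup_le (le_norm_sup e (le_norm_of_le_cent
    (cent_zpowers t ▸ h.half.normal.le))) (le_norm_of_le le_sup_right)))

variable (hM : M ≠ ⊤) (hc : 𝐂[t] ≤ M)
include hM hc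

theorem e8' : E8 A M := h.e8 hM ((h.le_cent h.t_mem).trans hc)

theorem inf_norm_le : M ⊓ 𝐍(A) ≤ 𝐂[t] := by
  obtain ⟨x, hx, x1, e⟩ | e := (h.e8' hM hc).fix_or
  · exact h.eq_of_cent hx x1 (e ⟨hc h.ρt, h.ρ_norm⟩) ▸ e
  refine absurd (h.eq_top h.t_mem h.t1 (fun g hg => ?_) hc) hM
  obtain ⟨m, hm, e⟩ := e t h.t_mem h.t1 _ (conj_mem_of_norm hg h.t_mem) (conj_ne_one.2 h.t1)
  exact (mul_mem_cancel_left (M.inv_mem hm.1)).1 (hc (mem_cent1_iff_conj.2 (by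
    rw [show m⁻¹ * g * t * (m⁻¹ * g)⁻¹ = m⁻¹ * (g * t * g⁻¹) * m by group, ← e]; group)))

theorem le_sup : M ≤ 𝐂[t] ⊔ O M := by
  have h1 := O_norm M (hc (mem_cent1_self t))
  rw [← quo_le_quo_iff_le_sup (O_norm M) (hc.trans (O_norm M)), ← inf_eq_right.2 hc,
    quo_cent1_of_odd (O_norm M) (odd_O M) (hc (mem_cent1_self t)) h.half.sq, le_inf_iff,
    ← cent_zpowers, ← quo_zpowers h1, quo_le_cent_iff (O_norm M) (zpowers_le.2 h1)]
  exact ⟨le_rfl, zst (h.e8' hM hc).syl h.ep.ab h.t_mem h.half.sq (h.inf_norm_le hM hc)⟩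

theorem le_O' (hY : Y ≤ M) (ho : Odd ♯Y) (hn : 𝐂[t] ≤ 𝐍(Y)) : Y ≤ O M :=
  le_sup_left.trans (le_O ⟨sup_le hY (Opi_le _ _), (h.le_sup hM hc).trans (sup_le (le_norm_sup hn
    (hc.trans (O_norm M))) (le_norm_of_le le_sup_right))⟩ ((ho.mul (odd_O M)).of_dvd_nat
      (card_sup_dvd (.inl (hY.trans (O_norm M))))))

variable (h2 : ¬ A ≤ 𝐂(O 𝐂[t]))
include h2

theorem eq_of_cent_O (hb : b ∈ A ⊓ 𝐂(O M)) (b1 : b ≠ 1) : b = t := by_contra fun e => h2 (by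
  rw [← h.sup_eq]
  exact sup_le ((h.le_of_norm (norm_le_norm_cent _ (O_norm M (hc h.ρt))) hb b1 e).trans (cent_anti
    (h.le_O' hM hc ((Opi_le _ _).trans hc) (odd_O _) (O_norm _))))
    (zpowers_le.2 (le_cent1_iff.1 (Opi_le _ _))))

theorem fs : FS M := (h.e8' hM hc).fs fun _ => h.eq_of_cent_O hM hc h2

end Dat

end Cfsg.Agent.W3
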