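import Cfsg.Agent.Lib.W3.Setup

/-!
# The rank 3 case of Walter's theorem: centralizers of involutions are not maximal
-/

set_option autoImplicit false

namespace Cfsg.Agent.W3

open Subgroup Cfsg.Agent.OO Cfsg.Agent.Coprime Cfsg.Agent.Sig Cfsg.Agent.GW Cfsg.Agent.R1
open scoped commutatorElement Pointwise

universe u

variable {G : Type u} [Group G] [Finite G] {A B D E H I J K L M N P Q S T X Y Z : Subgroup G}
  {n p q : ℕ} {a b c g k r s t v w x y ρ σ : G}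

omit [Finite G] in
theorem mem_S4' (h1 : t * t = 1) (h2 : s * s = 1) (h : Commute t s) :
    x ∈ S4 t s ↔ x = 1 ∨ x = t ∨ x = s ∨ x = t * s := by
  rw [S4, mem_sup_norm_right (le_norm_of_le_cent (by
    rw [cent_zpowers, zpowers_le]; exact mem_cent1.2 h))]
  simp only [mem_zp h1, mem_zp h2, exists_eq_or_imp, exists_eq_left, one_mul, mul_one, eq_comm (b := x)]
  tauto

theorem eq_one_of_inv (ho : Odd (orderOf x)) (h : b * x * b⁻¹ = x⁻¹) (hc : b ∈ 𝐂[x * x]) : x = 1 := by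
  have h1 := mem_cent1_iff_conj.1 (cent1_le_of_mem_zpowers (mem_zpowers_pow_iff.2
    (Nat.coprime_two_left.2 ho)) (sq x ▸ hc))
  exact eq_one_of_odd_of_sq ho (mul_eq_one_iff_eq_inv.2 (h1.symm.trans h))

theorem W.mul_mem_S4 (h : W A) (ha : a ∈ A) (hw : w ∈ A) (a1 : a ≠ 1) (w1 : w ≠ 1) (aw : a ≠ w)
    (hb : b ∈ A) (hc : c ∈ A) (b1 : b ∉ S4 a w) (c1 : c ∉ S4 a w) : b * c ∈ S4 a w := by
  have h1 := ((isEp_zpowers ha (orderOf_eq_two (h.sq ha) a1)).sup_two (isEp_zpowers hw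
    (orderOf_eq_two (h.sq hw) w1)) (le_cent_mono h.ep.le_cent (zpowers_le.2 hw) (zpowers_le.2 ha))
      fun e => ((mem_zp (h.sq hw)).1 (e ▸ mem_zpowers a)).elim a1 aw)
  have h2 := card_mul_relIndex h1.le
  rw [h1.card, h.ep.card] at h2
  exact (mul_mem_iff_of_index_two (H := (S4 a w).subgroupOf A) (a := ⟨b, hb⟩) (b := ⟨c, hc⟩)
    (show (zpowers a ⊔ zpowers w).relIndex A = 2 by omega)).2 (iff_of_false b1 c1)

namespace Dat

variable (h : Dat A a K r s σ)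
include h

theorem exists_not_mem (b1 : b ≠ 1) (b2 : b ≠ a) (c1 : c ≠ 1) (c2 : c ≠ a) :
    ∃ w ∈ S4 r s, w ≠ 1 ∧ b ∉ S4 a w ∧ c ∉ S4 a w := by
  have hp := h.v4.pair
  have k : ∀ x, x ≠ 1 → x ≠ a → ∀ w ∈ S4 r s, ∀ w' ∈ S4 r s, x ∈ S4 a w → x ∈ S4 a w' → w = w' :=
    fun x x1 x2 w hw w' hw' e e' => by
      have k : ∀ w ∈ S4 r s, x ∈ S4 a w → x = w ∨ x = a * w := fun w hw e => (((mem_S4' h.half.sq
        (h.sq (h.le hw)) (ab_iff.1 h.ep.ab _ h.t_mem _ (h.le hw))).1 e).resolve_left x1).resolve_left x2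
      rcases k w hw e with e | e <;> rcases k w' hw' e' with e' | e'
      · exact e.symm.trans e'
      · exact absurd ((mul_mem_cancel_right (hp.le hw')).1 (e'.symm.trans e ▸ hp.le hw)) h.half.not_mem
      · exact absurd ((mul_mem_cancel_right (hp.le hw)).1 (e.symm.trans e' ▸ hp.le hw')) h.half.not_mem
      · exact mul_left_cancel (e.symm.trans e')
  by_contra! e
  have m1 := t_mem_S4 r s
  have m2 := s_mem_S4 r s
  have m3 := mul_mem m1 m2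
  have e1 := e r m1 hp.t_ne
  have e2 := e s m2 hp.s_ne
  have e3 := e _ m3 hp.mul_ne_one
  have n1 := hp.ne
  have n2 := hp.mul.ne
  have n3 : s ≠ r * s := fun e => hp.t_ne (by simpa using e)
  by_cases f1 : b ∈ S4 a r
  · exact n3 (k c c1 c2 s m2 _ m3 (e2 fun f => n1 (k b b1 b2 r m1 s m2 f1 f))
      (e3 fun f => n2 (k b b1 b2 r m1 _ m3 f1 f)))
  by_cases f2 : b ∈ S4 a s
  · exact n2 (k c c1 c2 r m1 _ m3 (e1 f1) (e3 fun f => n3 (k b b1 b2 s m2 _ m3 f2 f)))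
  · exact n1 (k c c1 c2 r m1 s m2 (e1 f1) (e2 f2))

theorem exists_mem (hb : b ∈ A) (b1 : b ≠ 1) (b2 : b ≠ a) : ∃ w ∈ S4 r s, w ≠ 1 ∧ b ∈ S4 a w :=
  (h.mem_or hb).elim (fun e => ⟨b, e, b1, s_mem_S4 a b⟩) fun e => ⟨_, e,
    fun e' => b2 ((eq_inv_of_mul_eq_one_left e').trans (inv_eq h.half.sq)),
    (mul_mem_cancel_right (t_mem_S4 a _)).1 (s_mem_S4 a _)⟩

theorem weight (hP : P ≤ 𝐂[a]) (ho : Odd ♯P) (hn : 𝐂[a] ≤ 𝐍(P)) (hc : ¬ A ≤ 𝐂(P)) (hw : w ∈ S4 r s)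
    (w1 : w ≠ 1) : ∃ x ∈ P, x ≠ 1 ∧ S4 a w ≤ 𝐂[x] ∧ ∀ b ∈ A, b ∉ S4 a w → b * x * b⁻¹ = x⁻¹ := by
  have h1 : ¬ P ⊓ 𝐂[w] ≤ 𝐂(A) := fun e => by
    have k : ∀ g ∈ zpowers σ, P ⊓ 𝐂[g * w * g⁻¹] ≤ 𝐂(A) := fun g hg => by
      rw [cent1_conj, ← conj_eq_of_mem_norm (hn (zpowers_le.2 h.ρt hg)), ← conj_inf,
        ← conj_eq_of_mem_norm (zpowers_le.2 h.ρ_norm hg), conj_le_cent_conj]
      exact e
    refine hc (le_cent_symm (coprime_abelian_gen_cent1 h.v4.pair.ab (h.v4.pair.isEp.not_isCyclic le_rfl)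
      (h.le.trans ((h.le_cent h.t_mem).trans hn)) (h.v4.pair.coprime ho) fun b hb b1 => ?_))
    obtain ⟨g, hg, rfl⟩ := h.v4.exists_conj_of_mem hb b1
    obtain ⟨g', hg', rfl⟩ := h.v4.exists_conj_of_mem hw w1
    convert k _ (mul_mem hg (inv_mem hg')) using 4
    group
  obtain ⟨y, hy, e⟩ := SetLike.not_le_iff_exists.1 h1
  obtain ⟨c, hc, e⟩ := SetLike.not_le_iff_exists.1 (mt le_cent1_iff.1 e)
  have h2 : S4 a w ≤ 𝐂[y] := S4_le.2 ⟨mem_cent1_comm.1 (hP hy.1), mem_cent1_comm.1 hy.2⟩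
  have h3 : S4 a w ≤ A := S4_le.2 ⟨h.t_mem, h.le hw⟩
  have h4 : S4 a w ≤ 𝐂[⁅y, c⁆] := le_cent1_iff.2 (commutator_le_of_le (zpowers_le.2 (le_cent1_iff.1 h2))
    (zpowers_le.2 (le_cent1_iff.1 (h3.trans (h.le_cent hc))))
    (commutator_mem_commutator (mem_zpowers y) (mem_zpowers c)))
  refine ⟨_, commutator_le_left' (zpowers_le.2 (hn (h.le_cent h.t_mem hc))) (commutator_mem_commutator
    hy.1 (mem_zpowers c)), fun e' => e (mem_cent1.2 (commutatorElement_eq_one_iff_mul_comm.1 e').symm),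
    h4, fun b hb b1 => ?_⟩
  have h5 := mem_cent1_iff_conj.1 (h4 (h.mul_mem_S4 h.t_mem (h.le hw) h.t1 w1
    (fun e => h.half.not_mem (e ▸ h.v4.pair.le hw)) hc hb (mt (h2 ·) e) b1))
  have h6 := inv_eq (h.sq hc)
  calc _ = c⁻¹ * (c * b * ⁅y, c⁆ * (c * b)⁻¹) * c := by group
    _ = _ := by rw [h5, commutatorElement_inv, commutatorElement_def, commutatorElement_def, h6]; simp [mul_assoc, h.sq hc]

end Dat

theorem not_char [Fact p.Prime] (h2 : p ≠ 2) (h : Op p M ≠ ⊥) (h' : Op 2 M ≠ ⊥) (hq : q.Prime) :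
    ¬ Core.IsCharIn q M := fun e => by
  have := Fact.mk hq
  have k : ∀ r : ℕ, r.Prime → Op r M ≠ ⊥ → r = q := fun r hr h => by_contra fun e' => by
    have := Fact.mk hr
    exact h (eq_bot_iff.2 (Op'_eq_bot_of_isCharIn e ▸ Op_le_Op' e' M))
  exact h2 ((k p Fact.out h).trans (k 2 Nat.prime_two h').symm)

theorem Dat.not_coatom (h : Dat A t H a v ρ) (h' : Dat A a K r s σ) (h2 : ¬ A ≤ 𝐂(O 𝐂[a])) :
    ¬ IsCoatom 𝐂[a] := fun hM => by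
  have e8 := h.e8c h.a_mem h'.t1
  have hp := h.v4.pair
  have fM := h'.fs hM.1 le_rfl h2
  obtain ⟨p, hp', h3⟩ : ∃ p : ℕ, p.Prime ∧ ¬ A ≤ 𝐂(Op p 𝐂[a]) := by
    by_contra! e
    exact h2 (le_trans (le_inf le_rfl (le_cent_Fit_of_forall fun p hp => (e p hp.out).trans
      (cent_anti (Op_le_of_normal p (Opi_normal _ _))))) (coprime_cent_Fitting (e8.le.trans (O_norm _))
        (e8.coprime (odd_O _) le_rfl) (sol_of_odd (odd_O _))))
  have := Fact.mk hp'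
  have p2 : p ≠ 2 := by
    rintro rfl
    exact h3 (h.ep.le_cent.trans (cent_anti (Op_le_syl e8.syl)))
  obtain ⟨P, hP⟩ : ∃ P, P = Op p 𝐂[a] := ⟨_, rfl⟩
  have p1 : IsPGroup p P := hP ▸ Op_isPGroup _ _
  have p3 : P ⊴ 𝐂[a] := hP ▸ Op_normal _ _
  have p4 := odd_of_isPGroup p2 p1
  obtain ⟨Q, k1, ⟨k2, k3⟩, k4⟩ := Core.exists_minimal_le (P := fun Q => 𝐂[a] ≤ 𝐍(Q) ∧ ¬ A ≤ 𝐂(Q))
    ⟨p3.norm, hP ▸ h3⟩
  have k5 : A ≤ 𝐂(⁅Q, P⁆) := by_contra fun e => by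
    have := commutator_lt_of_isPGroup p1 (p1.to_le k1) (p3.le.trans k2) fun e => k3 (by simp [e])
    exact this.ne (k4 _ ⟨le_norm_commutator k2 p3.norm, e⟩ this.le)
  have k6 := fun w => h'.weight (w := w) (k1.trans p3.le) (odd_of_le p4 k1) k2 k3
  have h4 : 𝐂[a] ⊓ 𝐂[v] ≤ 𝐍(P ⊓ 𝐂[v]) := le_norm_inf (inf_le_left.trans p3.norm)
    (le_norm_of_le inf_le_right)
  have h5 : P ⊓ 𝐂[v] ≠ ⊥ := fun e => by
    obtain ⟨w, hw, w1, e'⟩ := h'.exists_mem h.v_mem hp.s_ne hp.ne.symm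
    obtain ⟨x, hx, x1, e1, -⟩ := k6 w hw w1
    exact x1 (mem_bot.1 (e ▸ ⟨k1 hx, mem_cent1_comm.1 (e1 e')⟩))
  obtain ⟨N, hN, h6⟩ := h.smp.exists_coatom h5 fun e => hM.1 (top_le_iff.1 (e ▸ inf_le_left.trans p3.le))
  have h7 := h4.trans h6
  have e8' := h.e8 hN.1 ((le_inf e8.le (h.le_cent h.v_mem)).trans h7)
  have ha : Arr 𝐂[a] N := arr_of_le (inf_le_left.trans (hP ▸ Op_le_Fit p _)) ((le_norm_self _).trans h6)
    (inf_le_right.trans ((cent_le_norm _).trans h6))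
  have h8 : Op 2 𝐂[a] ≠ ⊥ := fun e => h'.t1 (zpowers_eq_bot.1 (eq_bot_iff.2 (e ▸ le_Op
    ⟨zpowers_le.2 (mem_cent1_self a), le_norm_of_le_cent (cent_zpowers a).ge⟩
    (abelem_isPGroup (abelem_zpowers (by rw [_root_.sq, hp.t_sq]))))))
  have fN : FS N := e8'.fs (x := a) fun b hb b1 => by_contra fun b2 => by
    obtain ⟨c, hc, c1, c2, e⟩ := e8'.kw h.a_mem h'.t1 (Y := P ⊓ N) ⟨le_inf inf_le_right
      (inf_le_left.trans p3.le), le_norm_inf (inf_le_right.trans p3.norm) (le_norm_of_le inf_le_left)⟩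
      (odd_of_le p4 inf_le_left)
    obtain ⟨w, hw, w1, e1, e2⟩ := h'.exists_not_mem b1 b2 c1 c2
    obtain ⟨x, hx, x1, e3, e4⟩ := k6 w hw w1
    have xo := odd_of_mem p4 (k1 hx)
    have h9 : x ∈ N := h6 ((em (v ∈ S4 a w)).elim (fun e => le_norm_self _ ⟨k1 hx,
      mem_cent1_comm.1 (e3 e)⟩) fun e => cent_le_norm _ (le_cent1_iff.1 fun y hy => inv_comm xo
        (e4 v h.v_mem e) hy.2 (mem_cent1_comm.1 (cent_le_cent1 (commutator_mem_commutator hx hy.1)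
          (k5 h.v_mem)))))
    have h10 := e (commutator_mem_commutator (show x ∈ P ⊓ N from ⟨k1 hx, h9⟩) (mem_zpowers c))
    rw [show ⁅x, c⁆ = x * (c * x * c⁻¹)⁻¹ by rw [commutatorElement_def]; group, e4 c hc e2,
      inv_inv] at h10
    exact x1 (eq_one_of_inv xo (e4 b hb.1 e1) (cent_le_cent1 h10 hb.2))
  have hπ : ∀ q : ℕ, q.Prime → Op q N ≠ ⊥ → Op q 𝐂[a] ≠ ⊥ := fun q hq e e' => e (by
    have := Fact.mk hq
    have q1 := Op_inf_eq_bot ha fM e'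
    have q2 := odd_of_isPGroup (fun e : q = 2 => h8 (e ▸ e')) (Op_isPGroup q N)
    have k : ∀ b ∈ A, b ≠ 1 → 𝐂[b] ⊓ 𝐂[a] ≤ N → Op q N ⊓ 𝐂[b] ≤ ⊥ := fun b hb b1 e => by
      have q3 : 𝐂[b] ⊓ 𝐂[a] ≤ 𝐍(Op q N ⊓ 𝐂[b]) :=
        le_norm_inf (e.trans (Op_normal q N).norm) (le_norm_of_le inf_le_left)
      have q4 := q3 ⟨h.le_cent hb h.a_mem, mem_cent1_self a⟩
      refine ((h.e8c hb b1).le_Op h.a_mem h'.t1 inf_le_right ((Op_isPGroup q N).to_le inf_le_left) q3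
        le_rfl q4 (commutator_eq_of_inf_eq_bot hp.t_sq q4 (odd_of_le q2 inf_le_left)
          (eq_bot_iff.2 (q1 ▸ inf_le_inf_right _ inf_le_left)))).trans ?_
      obtain ⟨g, -, rfl⟩ := h.trans h.a_mem h'.t1 hb b1
      rw [cent1_conj, Op_conj, e', conj_bot]
    exact eq_bot_iff.2 (hp.le_of_forall (h.le.trans (e8'.le.trans (Op_normal q N).norm)) q2 q1.le
      (k v h.v_mem hp.s_ne ((inf_comm _ _).le.trans h7)) (k _ (mul_mem h.a_mem h.v_mem) hp.mul_ne_one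
        fun g hg => h7 ⟨hg.2, mem_cent1_comm.1 ((mul_mem_cancel_left
          (mem_cent1_comm.1 hg.2)).1 (mem_cent1_comm.1 hg.1))⟩)))
  obtain rfl := (h.smp.eq_or_char hM hN fM fN ha hπ).resolve_right fun ⟨q, hq, e, _⟩ =>
    not_char p2 (fun e => h5 (by rw [hP, e, bot_inf_eq])) h8 hq e
  have h9 := conj_mono ρ ((cent_le_norm _).trans h6)
  rw [← cent_conj, ← cent1_conj, h.v4.ρt] at h9
  have h10 : ρ •ᶜ (P ⊓ 𝐂[v]) ≤ 𝐂[v] ⊓ 𝐂[a * v] := by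
    rw [← h.v4.ρs, cent1_conj]
    nth_rewrite 2 [← h.v4.ρt]
    rw [cent1_conj, ← conj_inf]
    exact conj_mono ρ (inf_le_inf_right _ p3.le)
  have h11 := thompson_AxB (isPGroup_conj.2 (p1.to_le inf_le_left)) (Q := zpowers v) (by
    rw [Nat.card_zpowers, orderOf_eq_two hp.s_sq hp.s_ne]
    exact (Nat.coprime_primes Nat.prime_two hp').2 p2.symm) (h10.trans (inf_le_left.trans (cent_zpowers v).ge)) p1
    (h10.trans (le_trans (fun g hg => mem_cent1_comm.1 ((mul_mem_cancel_right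
      (mem_cent1_comm.1 hg.1)).1 (mem_cent1_comm.1 hg.2))) p3.norm))
    (zpowers_le.2 (p3.norm (e8.le h.v_mem))) (inf_le_right.trans (h9.trans (cent_zpowers v).ge))
  obtain ⟨w, hw, w1, e, -⟩ := h'.exists_not_mem hp.s_ne hp.ne.symm hp.s_ne hp.ne.symm
  obtain ⟨x, hx, x1, -, e4⟩ := k6 w hw w1
  exact x1 (eq_one_of_inv (odd_of_mem p4 (k1 hx)) (e4 v h.v_mem e)
    (cent_le_cent1 (mul_mem (k1 hx) (k1 hx)) (h11 (mem_zpowers v))))

end Cfsg.Agent.W3
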